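import Groth.Prelude.Def_Disc
import Mathlib.RingTheory.Discriminant
import Mathlib.RingTheory.Norm.Defs
import Mathlib.RingTheory.Trace.Basic
import Mathlib.RingTheory.Kaehler.Basic
import Mathlib.RingTheory.Unramified.Finite
import Mathlib.RingTheory.Smooth.Fiber
import Mathlib.RingTheory.PicardGroup
import Mathlib.RingTheory.Finiteness.ModuleFinitePresentation

/-!
# The pairing between `Ann(ker(B ⊗ B → B))` and `Hom_B(Hom_A(B, A), B)`

For a finite free algebra `A → B`: noether different, different and discriminant.
-/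

set_option autoImplicit false

universe u v

open TensorProduct Disc

namespace Groth.Misc1.ND

variable {A : Type u} {B : Type v} [CommRing A] [CommRing B] [Algebra A B]

/-- evaluation of a functional on the left factor -/
noncomputable def ev (l : Omega A B) : B ⊗[A] B →ₗ[A] B :=
  TensorProduct.lift ((LinearMap.lsmul A B).comp l.toLinearMap)

@[simp] lemma ev_tmul (l : Omega A B) (b c : B) : ev l (b ⊗ₜ[A] c) = l.toLinearMap b • c := rfl

lemma ev_add (l m : Omega A B) (ξ : B ⊗[A] B) : ev (l + m) ξ = ev l ξ + ev m ξ := by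
  induction ξ using TensorProduct.induction_on with
  | zero => simp
  | tmul b c => simp [add_smul]
  | add x y hx hy => simp only [map_add, hx, hy]; abel

lemma ev_smul (x : B) (l : Omega A B) (ξ : B ⊗[A] B) : ev (x • l) ξ = ev l ((x ⊗ₜ[A] 1) * ξ) := by
  induction ξ using TensorProduct.induction_on with
  | zero => simp
  | tmul b c => simp
  | add y z hy hz => simp only [map_add, mul_add, hy, hz]

lemma ev_mul_right (x : B) (l : Omega A B) (ξ : B ⊗[A] B) :
    ev l ((1 ⊗ₜ[A] x) * ξ) = x * ev l ξ := by
  induction ξ using TensorProduct.induction_on with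
  | zero => simp
  | tmul b c => simp [mul_smul_comm]
  | add y z hy hz => simp only [map_add, mul_add, hy, hz]

lemma mem_ann_iff (ξ : B ⊗[A] B) :
    ξ ∈ Submodule.annihilator (RingHom.ker (Algebra.TensorProduct.lmul' (S := B) A)) ↔
      ∀ s : B, ((1 : B) ⊗ₜ[A] s) * ξ = (s ⊗ₜ[A] (1 : B)) * ξ := by
  have h : RingHom.ker (Algebra.TensorProduct.lmul' (S := B) A) =
      Ideal.span (Set.range fun s : B => (1 : B) ⊗ₜ[A] s - s ⊗ₜ[A] (1 : B)) :=
    (KaehlerDifferential.span_range_eq_ideal A B).symm
  rw [h, Ideal.span, Submodule.mem_annihilator_span]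
  simp only [Subtype.forall, Set.forall_mem_range, smul_eq_mul]
  refine forall_congr' fun s => ?_
  rw [mul_comm, sub_mul, sub_eq_zero]

lemma swap_mem_ann {ξ : B ⊗[A] B}
    (hξ : ξ ∈ Submodule.annihilator (RingHom.ker (Algebra.TensorProduct.lmul' (S := B) A))) :
    Algebra.TensorProduct.comm A B B ξ ∈
      Submodule.annihilator (RingHom.ker (Algebra.TensorProduct.lmul' (S := B) A)) := by
  rw [mem_ann_iff] at hξ ⊢
  intro s
  have := congrArg (Algebra.TensorProduct.comm A B B) (hξ s)
  simpa only [map_mul, Algebra.TensorProduct.comm_tmul] using this.symm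

lemma lmul_comm (ξ : B ⊗[A] B) :
    Algebra.TensorProduct.lmul' (S := B) A (Algebra.TensorProduct.comm A B B ξ) =
      Algebra.TensorProduct.lmul' (S := B) A ξ := by
  induction ξ using TensorProduct.induction_on with
  | zero => simp
  | tmul b c => simp [mul_comm]
  | add y z hy hz => simp only [map_add, hy, hz]

/-- An element of the annihilator of the diagonal ideal gives a linear map on `Omega`. -/
noncomputable def toHom (ξ : B ⊗[A] B)
    (hξ : ξ ∈ Submodule.annihilator (RingHom.ker (Algebra.TensorProduct.lmul' (S := B) A))) :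
    Omega A B →ₗ[B] B where
  toFun l := ev l ξ
  map_add' l m := ev_add l m ξ
  map_smul' x l := by
    rw [ev_smul, ← (mem_ann_iff ξ).mp hξ x, ev_mul_right]; rfl

section Basis

variable {ι : Type*} [Fintype ι] (b : Module.Basis ι A B)

/-- dual basis vector -/
noncomputable def coordOmega (i : ι) : Omega A B := ⟨b.coord i⟩

lemma expand (ξ : B ⊗[A] B) : ξ = ∑ i, b i ⊗ₜ[A] ev (coordOmega b i) ξ := by
  induction ξ using TensorProduct.induction_on with
  | zero => simp
  | tmul x c =>
      simp only [ev_tmul, coordOmega, Module.Basis.coord_apply, TensorProduct.tmul_smul,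
        ← TensorProduct.smul_tmul', ← TensorProduct.sum_tmul]
      conv_lhs => rw [← b.sum_repr x, TensorProduct.sum_tmul]
      simp only [← TensorProduct.smul_tmul']
  | add y z hy hz =>
      simp only [map_add, TensorProduct.tmul_add, Finset.sum_add_distrib, ← hy, ← hz]

omit [Fintype ι] in
lemma toLinearMap_sum {α : Type*} (s : Finset α) (f : α → Omega A B) (x : B) :
    (∑ a ∈ s, f a).toLinearMap x = ∑ a ∈ s, (f a).toLinearMap x := by
  classical
  induction s using Finset.induction_on with
  | empty => simp
  | insert a s has ih => simp [Finset.sum_insert has, ih]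

lemma omega_expand (l : Omega A B) :
    l = ∑ i, algebraMap A B (l.toLinearMap (b i)) • coordOmega b i := by
  ext x
  rw [toLinearMap_sum]
  simp only [Omega.smul_toLinearMap_apply, ← Algebra.smul_def, coordOmega, map_smul, smul_eq_mul,
    Module.Basis.coord_apply]
  conv_lhs => rw [← b.sum_repr x]
  simp only [map_sum, map_smul, smul_eq_mul]
  exact Finset.sum_congr rfl fun i _ => mul_comm _ _

/-- the element attached to a linear map on `Omega` -/
noncomputable def ofHom (Φ : Omega A B →ₗ[B] B) : B ⊗[A] B :=
  ∑ i, b i ⊗ₜ[A] Φ (coordOmega b i)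

lemma ev_ofHom (Φ : Omega A B →ₗ[B] B) (l : Omega A B) : ev l (ofHom b Φ) = Φ l := by
  conv_rhs => rw [omega_expand b l, map_sum]
  simp only [ofHom, map_sum, ev_tmul, map_smul, smul_eq_mul, Algebra.smul_def]

include b in
lemma ev_injective {ξ η : B ⊗[A] B} (h : ∀ l, ev l ξ = ev l η) : ξ = η := by
  rw [expand b ξ, expand b η]; simp only [h]

lemma ofHom_mem (Φ : Omega A B →ₗ[B] B) :
    ofHom b Φ ∈ Submodule.annihilator (RingHom.ker (Algebra.TensorProduct.lmul' (S := B) A)) := by
  rw [mem_ann_iff]
  intro s
  refine ev_injective b fun l => ?_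
  rw [ev_mul_right, ← ev_smul, ev_ofHom, ev_ofHom, map_smul, smul_eq_mul]

end Basis

section Finite

variable [Module.Free A B] [Module.Finite A B]

theorem exists_unique_pairing (Φ : Omega A B →ₗ[B] B) :
    ∃! ξ : B ⊗[A] B,
      ξ ∈ Submodule.annihilator (RingHom.ker (Algebra.TensorProduct.lmul' (S := B) A)) ∧
        ∀ l : Omega A B, Φ l = ev l ξ := by
  let b := Module.Free.chooseBasis A B
  refine ⟨ofHom b Φ, ⟨ofHom_mem b Φ, fun l => (ev_ofHom b Φ l).symm⟩, ?_⟩
  rintro η ⟨-, h⟩
  exact ev_injective b fun l => by rw [ev_ofHom, h l]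

lemma trace_expand {ι : Type*} [Fintype ι] (b : Module.Basis ι A B) :
    Omega.trace A B = ∑ i, b i • coordOmega b i := by
  classical
  ext x
  rw [toLinearMap_sum]
  simp only [Omega.trace, Omega.smul_toLinearMap_apply, coordOmega, Module.Basis.coord_apply,
    Algebra.trace_eq_matrix_trace b, Matrix.trace, Matrix.diag,
    Algebra.leftMulMatrix_eq_repr_mul, mul_comm x]

lemma ev_trace {ξ : B ⊗[A] B}
    (hξ : ξ ∈ Submodule.annihilator (RingHom.ker (Algebra.TensorProduct.lmul' (S := B) A))) :
    ev (Omega.trace A B) ξ = Algebra.TensorProduct.lmul' (S := B) A ξ := by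
  let b := Module.Free.chooseBasis A B
  change toHom ξ hξ (Omega.trace A B) = _
  rw [trace_expand b, map_sum]
  conv_rhs => rw [expand b ξ, map_sum]
  simp only [map_smul, Algebra.TensorProduct.lmul'_apply_tmul, smul_eq_mul]
  rfl

theorem mem_noether_iff (x : B) :
    x ∈ noetherDifferent A B ↔ ∃ Φ : Omega A B →ₗ[B] B, Φ (Omega.trace A B) = x := by
  unfold noetherDifferent
  rw [Ideal.mem_map_iff_of_surjective]
  · constructor
    · rintro ⟨ξ, hξ, rfl⟩
      exact ⟨toHom ξ hξ, ev_trace hξ⟩
    · rintro ⟨Φ, rfl⟩
      let b := Module.Free.chooseBasis A B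
      exact ⟨ofHom b Φ, ofHom_mem b Φ, by rw [← ev_trace (ofHom_mem b Φ), ev_ofHom]⟩
  · exact fun y => ⟨y ⊗ₜ 1, by simp⟩

/-- The key identity `μ(ξ) • l = ev l ξ • τ`. -/
lemma lmul_smul_eq {ξ : B ⊗[A] B}
    (hξ : ξ ∈ Submodule.annihilator (RingHom.ker (Algebra.TensorProduct.lmul' (S := B) A)))
    (l : Omega A B) :
    Algebra.TensorProduct.lmul' (S := B) A ξ • l = ev l ξ • Omega.trace A B := by
  ext x
  have h1 : ev (x • Omega.trace A B) (Algebra.TensorProduct.comm A B B ξ) =
      x * Algebra.TensorProduct.lmul' (S := B) A ξ := by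
    have := (toHom _ (swap_mem_ann hξ)).map_smul x (Omega.trace A B)
    rw [smul_eq_mul] at this
    refine this.trans ?_
    change x * ev _ _ = _
    rw [ev_trace (swap_mem_ann hξ), lmul_comm]
  have h2 : ∀ η : B ⊗[A] B, l.toLinearMap (ev (x • Omega.trace A B)
      (Algebra.TensorProduct.comm A B B η)) = (Omega.trace A B).toLinearMap (x * ev l η) := by
    intro η
    induction η using TensorProduct.induction_on with
    | zero => simp
    | tmul p q => simp [mul_comm]
    | add y z hy hz => simp only [map_add, mul_add, hy, hz]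
  rw [Omega.smul_toLinearMap_apply, Omega.smul_toLinearMap_apply, mul_comm, ← h1, h2, mul_comm]

omit [Module.Free A B] [Module.Finite A B] in
lemma mem_differentSet_iff_raw (x : B) :
    x ∈ differentSet A B ↔ ∀ φ : Omega A B, ∃ c : B,
      ∀ y : B, (x • φ).toLinearMap y = Algebra.trace A B (c * y) :=
  ⟨fun h φ => h φ.toLinearMap, fun h φ => h ⟨φ⟩⟩

lemma mem_differentSet_iff (x : B) :
    x ∈ differentSet A B ↔ ∀ l : Omega A B, ∃ c : B, x • l = c • Omega.trace A B := by
  rw [mem_differentSet_iff_raw]
  refine forall_congr' fun l => exists_congr fun c => ⟨fun h => ?_, fun h y => ?_⟩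
  · ext y; exact h y
  · rw [h]; rfl

theorem noether_subset_different : (noetherDifferent A B : Set B) ⊆ differentSet A B := by
  intro x hx
  rw [SetLike.mem_coe, mem_noether_iff] at hx
  obtain ⟨Φ, rfl⟩ := hx
  rw [mem_differentSet_iff]
  intro l
  let b := Module.Free.chooseBasis A B
  refine ⟨Φ l, ?_⟩
  have := lmul_smul_eq (ofHom_mem b Φ) l
  rwa [← ev_trace (ofHom_mem b Φ), ev_ofHom, ev_ofHom] at this

lemma mul_eq_zero_of_smul_trace {f c : B} (hf : f ∈ differentSet A B)
    (hc : c • Omega.trace A B = 0) : c * f = 0 := by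
  let b := Module.Free.chooseBasis A B
  refine b.ext_elem fun i => ?_
  obtain ⟨d, hd⟩ := (mem_differentSet_iff f).mp hf (coordOmega b i)
  have : (c * f) • coordOmega b i = 0 := by rw [mul_smul, hd, smul_comm, hc, smul_zero]
  have := congrArg (fun m : Omega A B => m.toLinearMap 1) this
  simpa [coordOmega] using this

theorem sq_mem_noether {f : B} (hf : f ∈ differentSet A B) : f * f ∈ noetherDifferent A B := by
  rw [mem_noether_iff]
  choose c hc using (mem_differentSet_iff f).mp hf
  have key : ∀ a a' : B, a • Omega.trace A B = a' • Omega.trace A B → f * a = f * a' := by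
    intro a a' h
    have := mul_eq_zero_of_smul_trace hf (c := a - a') (by rw [sub_smul, h, sub_self])
    linear_combination this
  let Φ : Omega A B →ₗ[B] B :=
    { toFun := fun l => f * c l
      map_add' := fun l m => by
        rw [← mul_add]
        exact key _ _ (by rw [add_smul, ← hc, ← hc, ← hc, smul_add])
      map_smul' := fun x l => by
        rw [RingHom.id_apply, smul_eq_mul, mul_left_comm]
        exact key _ _ (by rw [mul_smul, ← hc, ← hc, smul_comm]) }
  exact ⟨Φ, key (c (Omega.trace A B)) f (hc _).symm⟩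

theorem subset_prime_iff (q : Ideal B) [q.IsPrime] :
    differentSet A B ⊆ q ↔ noetherDifferent A B ≤ q := by
  refine ⟨fun h x hx => h (noether_subset_different hx), fun h x hx => ?_⟩
  exact (‹q.IsPrime›.mem_or_mem (h (sq_mem_noether hx))).elim id id

lemma one_mem_noether_iff :
    (1 : B) ∈ noetherDifferent A B ↔ Algebra.FormallyUnramified A B := by
  haveI : Algebra.FiniteType A B := Module.Finite.finiteType B
  rw [Algebra.FormallyUnramified.iff_exists_tensorProduct]
  unfold noetherDifferent
  rw [Ideal.mem_map_iff_of_surjective]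
  · refine exists_congr fun t => ?_
    rw [mem_ann_iff]
    simp only [sub_mul, sub_eq_zero]
  · exact fun y => ⟨y ⊗ₜ 1, by simp⟩

lemma mul_trace_apply {ι : Type*} [Fintype ι] (b : Module.Basis ι A B) (c : ι → B) (i j : ι) :
    ((Matrix.of fun i k => b.repr (c i) k) * Algebra.traceMatrix A b) i j =
      (c i • Omega.trace A B).toLinearMap (b j) := by
  rw [Omega.smul_toLinearMap_apply]
  conv_rhs => rw [← b.sum_repr (c i)]
  simp only [Omega.trace, Matrix.mul_apply, Matrix.of_apply, Algebra.traceMatrix_apply,
    Algebra.traceForm_apply, Finset.sum_mul, map_sum, smul_mul_assoc, map_smul, smul_eq_mul]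

lemma discr_isUnit_iff {ι : Type*} [Fintype ι] [DecidableEq ι] (b : Module.Basis ι A B) :
    IsUnit (Algebra.discr A b) ↔ (1 : B) ∈ differentSet A B := by
  rw [mem_differentSet_iff, Algebra.discr_def, ← Matrix.isUnit_iff_isUnit_det]
  constructor
  · intro h l
    obtain ⟨v, hv⟩ := (Matrix.mulVec_surjective_iff_isUnit.mpr h) (fun j => l.toLinearMap (b j))
    refine ⟨∑ i, v i • b i, ?_⟩
    rw [one_smul]
    apply Omega.toLinearMap_injective
    refine b.ext fun j => ?_
    rw [Omega.smul_toLinearMap_apply, ← congrFun hv j]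
    simp only [Omega.trace, Finset.sum_mul, map_sum, smul_mul_assoc, map_smul, smul_eq_mul,
      Matrix.mulVec, dotProduct, Algebra.traceMatrix_apply, Algebra.traceForm_apply]
    exact Finset.sum_congr rfl fun i _ => by rw [mul_comm (b j)]; ring
  · intro h
    choose c hc using fun i => h (coordOmega b i)
    refine (Matrix.isUnit_iff_isUnit_det _).mpr
      (Matrix.isUnit_det_of_left_inverse (B := Matrix.of fun i k => b.repr (c i) k) ?_)
    ext i j
    rw [mul_trace_apply b c i j, ← hc i]
    simp [coordOmega, Matrix.one_apply, Finsupp.single_apply, eq_comm]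

theorem etale_iff_isUnit_discr {ι : Type*} [Fintype ι] [DecidableEq ι] (b : Module.Basis ι A B) :
    Algebra.Etale A B ↔ IsUnit (Algebra.discr A b) := by
  rw [discr_isUnit_iff]
  constructor
  · intro h
    exact noether_subset_different (one_mem_noether_iff.mpr inferInstance)
  · intro h
    have h1 : (1 : B) ∈ noetherDifferent A B := by simpa using sq_mem_noether h
    haveI := one_mem_noether_iff.mp h1
    haveI : Module.FinitePresentation A B := Module.finitePresentation_of_projective A B
    haveI : Algebra.FinitePresentation A B := inferInstance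
    exact .of_formallyUnramified_of_flat

theorem norm_mem_span_discr {ι : Type*} [Fintype ι] [DecidableEq ι] (b : Module.Basis ι A B)
    {x : B} (hx : x ∈ differentSet A B) :
    Algebra.norm A x ∈ Ideal.span {Algebra.discr A b} := by
  choose c hc using fun i => (mem_differentSet_iff x).mp hx (coordOmega b i)
  have key : Algebra.leftMulMatrix b x =
      (Matrix.of fun i k => b.repr (c i) k) * Algebra.traceMatrix A b := by
    ext i j
    rw [mul_trace_apply b c i j, ← hc i, Algebra.leftMulMatrix_eq_repr_mul]
    rfl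
  rw [Ideal.mem_span_singleton, Algebra.norm_eq_matrix_det b, key, Matrix.det_mul,
    Algebra.discr_def]
  exact dvd_mul_left _ _

theorem different_eq_noether_of_invertible [Module.Invertible B (Omega A B)] :
    differentSet A B = (noetherDifferent A B : Set B) := by
  refine Set.Subset.antisymm (fun x hx => ?_) noether_subset_different
  obtain ⟨t, ht⟩ := (Module.Invertible.linearEquiv B (Omega A B)).surjective 1
  have : ∀ t : Module.Dual B (Omega A B) ⊗[B] Omega A B,
      x * (Module.Invertible.linearEquiv B (Omega A B) t) ∈ noetherDifferent A B := by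
    intro t
    induction t using TensorProduct.induction_on with
    | zero => simp
    | tmul φ l =>
        obtain ⟨c, hc⟩ := (mem_differentSet_iff x).mp hx l
        change x * φ l ∈ _
        rw [← smul_eq_mul, ← map_smul, hc, map_smul, smul_eq_mul]
        exact Ideal.mul_mem_left _ _ ((mem_noether_iff _).mpr ⟨φ, rfl⟩)
    | add y z hy hz => simp only [map_add, mul_add]; exact Ideal.add_mem _ hy hz
  simpa [ht] using this t

end Finite

end Groth.Misc1.ND
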