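import Groth.Prelude.Def_Fitting
import Mathlib.LinearAlgebra.Matrix.Determinant.Basic
import Mathlib.LinearAlgebra.Matrix.SchurComplement
import Mathlib.RingTheory.Kaehler.Basic
import Mathlib.Algebra.MvPolynomial.PDeriv

/-!
# The zeroth Fitting ideal of a square presentation, and the Kähler different of a complete intersection
-/

set_option autoImplicit false

universe u v

namespace Groth.Misc1.FittPres

open Matrix

variable {R : Type u} [CommRing R] {M : Type v} [AddCommGroup M] [Module R M]

theorem det_dvd_of_relations {n m : ℕ} (J : Matrix (Fin n) (Fin n) R) (e : Fin n → M)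
    (he : Submodule.span R (Set.range e) = ⊤)
    (hker : ∀ c : Fin n → R, ∑ j, c j • e j = 0 → ∃ d : Fin n → R, c = d ᵥ* J)
    (x : Fin m → M) (hx : Submodule.span R (Set.range x) = ⊤)
    (a : Matrix (Fin m) (Fin m) R) (ha : ∀ i, ∑ j, a i j • x j = 0) :
    J.det ∣ a.det := by
  have hU : ∀ i, ∃ c : Fin n → R, ∑ j, c j • e j = x i := fun i =>
    (Submodule.mem_span_range_iff_exists_fun R).mp (he ▸ Submodule.mem_top)
  have hV : ∀ i, ∃ c : Fin m → R, ∑ j, c j • x j = e i := fun i =>
    (Submodule.mem_span_range_iff_exists_fun R).mp (hx ▸ Submodule.mem_top)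
  choose U hU using hU
  choose V hV using hV
  let U' : Matrix (Fin m) (Fin n) R := Matrix.of U
  let V' : Matrix (Fin n) (Fin m) R := Matrix.of V
  have h1 : ∀ i, ∑ j, (a * U') i j • e j = 0 := fun i => by
    simp only [Matrix.mul_apply, U', Matrix.of_apply, Finset.sum_smul, mul_smul]
    rw [Finset.sum_comm]
    simp only [← Finset.smul_sum, hU, ha]
  have h2 : ∀ i, ∑ j, (V' * U' - (1 : Matrix (Fin n) (Fin n) R)) i j • e j = 0 := fun i => by
    simp only [Matrix.sub_apply, sub_smul, Finset.sum_sub_distrib, Matrix.mul_apply, U', V',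
      Matrix.of_apply, Finset.sum_smul, mul_smul, Matrix.one_apply, ite_smul, one_smul, zero_smul,
      Finset.sum_ite_eq, Finset.mem_univ, if_true]
    rw [Finset.sum_comm]
    simp only [← Finset.smul_sum, hU, hV, sub_self]
  choose C hC using fun i => hker _ (h1 i)
  choose D hD using fun i => hker _ (h2 i)
  have hC' : a * U' = Matrix.of C * J := by
    refine Matrix.ext fun i j => ?_
    exact congrFun (hC i) j
  have hD' : V' * U' - (1 : Matrix (Fin n) (Fin n) R) = Matrix.of D * J := by
    refine Matrix.ext fun i j => ?_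
    exact congrFun (hD i) j
  have key : Matrix.fromBlocks a 0 V' (-1) * Matrix.fromBlocks 1 U' 0 1 =
      Matrix.fromBlocks a (Matrix.of C) V' (Matrix.of D) * Matrix.fromBlocks 1 0 0 J := by
    rw [Matrix.fromBlocks_multiply, Matrix.fromBlocks_multiply]
    simp only [Matrix.mul_one, Matrix.mul_zero, Matrix.zero_mul, add_zero, zero_add, ← hC', ← hD']
    congr 1
    rw [sub_eq_add_neg]
  have h := congrArg Matrix.det key
  rw [Matrix.det_mul, Matrix.det_mul, Matrix.det_fromBlocks_zero₁₂, Matrix.det_fromBlocks_zero₂₁,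
    Matrix.det_fromBlocks_zero₁₂, Matrix.det_one, Matrix.det_one, mul_one, mul_one, one_mul,
    Matrix.det_neg, Matrix.det_one, mul_one, Fintype.card_fin] at h
  have hu : IsUnit ((-1 : R) ^ n) := (isUnit_one.neg).pow n
  rw [← hu.dvd_mul_right, h]
  exact dvd_mul_left _ _

theorem fitt_zero_eq {n : ℕ} (J : Matrix (Fin n) (Fin n) R) (e : Fin n → M)
    (he : Submodule.span R (Set.range e) = ⊤)
    (hrel : ∀ i, ∑ j, J i j • e j = 0)
    (hker : ∀ c : Fin n → R, ∑ j, c j • e j = 0 → ∃ d : Fin n → R, c = d ᵥ* J) :
    Fitt.ideal R M 0 = Ideal.span {J.det} := by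
  apply le_antisymm
  · rw [Fitt.ideal, Ideal.span_le]
    rintro _ ⟨m, x, a, hx, ha, rfl⟩
    rw [SetLike.mem_coe, Ideal.mem_span_singleton]
    exact det_dvd_of_relations J e he hker x hx a fun i => ha i (by omega)
  · rw [Ideal.span_le, Set.singleton_subset_iff]
    exact Ideal.subset_span ⟨n, e, J, he, fun i _ => hrel i, rfl⟩

theorem kaehler_aux {A B : Type u} [CommRing A] [CommRing B] [Algebra A B] {n : ℕ}
    (f : Fin n → MvPolynomial (Fin n) A) (π : MvPolynomial (Fin n) A →ₐ[A] B)
    (hπ : Function.Surjective π) (hkerπ : RingHom.ker π = Ideal.span (Set.range f)) :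
    Fitt.ideal B (KaehlerDifferential A B) 0 =
      Ideal.span {π (Matrix.det (Matrix.of fun i j : Fin n => MvPolynomial.pderiv j (f i)))} := by
  classical
  letI : Algebra (MvPolynomial (Fin n) A) B := π.toRingHom.toAlgebra
  haveI : IsScalarTower A (MvPolynomial (Fin n) A) B :=
    IsScalarTower.of_algebraMap_eq fun a => (π.commutes a).symm
  let J : Matrix (Fin n) (Fin n) B := Matrix.of fun i j => π (MvPolynomial.pderiv j (f i))
  let e : Fin n → KaehlerDifferential A B := fun j => KaehlerDifferential.D A B (π (MvPolynomial.X j))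
  let S : Submodule B (Fin n → B) := Submodule.span B (Set.range J)
  let D₁ : Derivation A (MvPolynomial (Fin n) A) ((Fin n → B) ⧸ S) :=
    Derivation.mk' ((S.mkQ.restrictScalars A).comp
      (LinearMap.pi fun j => π.toLinearMap.comp
        (MvPolynomial.pderiv j : Derivation A (MvPolynomial (Fin n) A) (MvPolynomial (Fin n) A)).toLinearMap))
      (fun a b => by
        simp only [LinearMap.comp_apply, LinearMap.restrictScalars_apply, Submodule.mkQ_apply]
        rw [← Submodule.Quotient.mk_smul, ← Submodule.Quotient.mk_smul, ← Submodule.Quotient.mk_add]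
        congr 1
        ext j
        simp [Algebra.smul_def, RingHom.algebraMap_toAlgebra, add_comm, mul_comm])
  have hD₁ : ∀ p, D₁ p = Submodule.Quotient.mk (fun j => π (MvPolynomial.pderiv j p)) := fun p => rfl
  have hsm : ∀ (p : MvPolynomial (Fin n) A) (v : (Fin n → B) ⧸ S), p • v = π p • v := fun p v => by
    rw [← algebraMap_smul B p v]; rfl
  have hzero : ∀ p, π p = 0 → D₁ p = 0 := by
    intro p hp
    have hp' : p ∈ Ideal.span (Set.range f) := hkerπ ▸ RingHom.mem_ker.mpr hp
    clear hp
    induction hp' using Submodule.span_induction with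
    | mem y hy =>
        obtain ⟨i, rfl⟩ := hy
        rw [hD₁, Submodule.Quotient.mk_eq_zero]
        exact Submodule.subset_span ⟨i, rfl⟩
    | zero => exact map_zero _
    | add a b _ _ ha hb => rw [map_add, ha, hb, add_zero]
    | smul r a ha hda =>
        rw [smul_eq_mul, Derivation.leibniz, hda, smul_zero, zero_add, hsm,
          RingHom.mem_ker.mp (hkerπ.symm ▸ ha : a ∈ RingHom.ker π), zero_smul]
  let L : B →ₗ[A] ((Fin n → B) ⧸ S) :=
    (Submodule.liftQ (LinearMap.ker π.toLinearMap) D₁.toLinearMap
      (fun p hp => hzero p hp)).comp (π.toLinearMap.quotKerEquivOfSurjective hπ).symm.toLinearMap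
  have hL : ∀ p, L (π p) = D₁ p := fun p => by
    simp only [L, LinearMap.comp_apply, LinearEquiv.coe_coe]
    have : (π.toLinearMap.quotKerEquivOfSurjective hπ).symm (π p) = Submodule.Quotient.mk p :=
      (LinearEquiv.symm_apply_eq _).mpr rfl
    rw [this]
    rfl
  let D : Derivation A B ((Fin n → B) ⧸ S) :=
    Derivation.mk' L (fun a b => by
      obtain ⟨a, rfl⟩ := hπ a
      obtain ⟨b, rfl⟩ := hπ b
      rw [← map_mul, hL, hL, hL, Derivation.leibniz, hsm, hsm])
  let g := D.liftKaehlerDifferential
  have hge : ∀ j, g (e j) = Submodule.Quotient.mk (Pi.single j (1 : B)) := fun j => by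
    simp only [g, e, Derivation.liftKaehlerDifferential_comp_D]
    refine (hL _).trans ?_
    rw [hD₁]
    congr 1
    ext k
    rw [MvPolynomial.pderiv_X, Pi.single_apply, Pi.single_apply]
    split <;> simp_all [eq_comm]
  have hd : ∀ p, KaehlerDifferential.D A B (π p) = ∑ j, π (MvPolynomial.pderiv j p) • e j := by
    intro p
    induction p using MvPolynomial.induction_on with
    | C a =>
        rw [show π (MvPolynomial.C a) = algebraMap A B a from π.commutes a, Derivation.map_algebraMap]
        simp
    | add a b ha hb => simp only [map_add, ha, hb, add_smul, Finset.sum_add_distrib]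
    | mul_X a i ha =>
        rw [map_mul, Derivation.leibniz, ha]
        simp only [MvPolynomial.pderiv_mul, MvPolynomial.pderiv_X, map_add, map_mul, add_smul,
          Finset.sum_add_distrib, Finset.smul_sum, smul_smul]
        rw [add_comm (π a • _)]
        congr 1
        · simp only [mul_comm]
        · rw [Finset.sum_eq_single i]
          · simp [e]
          · intro b _ hb; simp [Pi.single_eq_of_ne hb.symm]
          · simp
  rw [fitt_zero_eq J e ?_ ?_ ?_]
  · rw [show π (Matrix.det _) = π.toRingHom (Matrix.det _) from rfl, RingHom.map_det]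
    rfl
  · rw [eq_top_iff, ← KaehlerDifferential.span_range_derivation, Submodule.span_le]
    rintro _ ⟨y, rfl⟩
    obtain ⟨p, rfl⟩ := hπ y
    rw [SetLike.mem_coe, hd]
    exact Submodule.sum_mem _ fun j _ => Submodule.smul_mem _ _ (Submodule.subset_span ⟨j, rfl⟩)
  · intro i
    change ∑ j, π (MvPolynomial.pderiv j (f i)) • e j = 0
    have h0 : π (f i) = 0 := RingHom.mem_ker.mp (hkerπ ▸ Ideal.subset_span ⟨i, rfl⟩ : f i ∈ RingHom.ker π)
    rw [← hd, h0, map_zero]
  · intro c hc
    have := congrArg g hc
    simp only [map_sum, map_smul, hge, map_zero, ← Submodule.Quotient.mk_smul] at this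
    have h2 : ∑ j, (Submodule.Quotient.mk (c j • Pi.single j (1 : B)) : (Fin n → B) ⧸ S) =
        Submodule.Quotient.mk c := by
      conv_rhs => rw [← Finset.univ_sum_single c]
      rw [← Submodule.mkQ_apply, map_sum]
      refine Finset.sum_congr rfl fun j _ => ?_
      rw [Submodule.mkQ_apply, ← Pi.single_smul, smul_eq_mul, mul_one]
    rw [h2, Submodule.Quotient.mk_eq_zero] at this
    obtain ⟨d, hd'⟩ := (Submodule.mem_span_range_iff_exists_fun B).mp this
    refine ⟨d, ?_⟩
    rw [← hd']
    ext j
    simp [Matrix.vecMul, dotProduct, Finset.sum_apply]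

theorem kaehler (A : Type u) [CommRing A] (n : ℕ) (f : Fin n → MvPolynomial (Fin n) A) :
    Fitt.ideal (MvPolynomial (Fin n) A ⧸ Ideal.span (Set.range f))
      (KaehlerDifferential A (MvPolynomial (Fin n) A ⧸ Ideal.span (Set.range f))) 0 =
      Ideal.span {Ideal.Quotient.mk (Ideal.span (Set.range f))
        (Matrix.det (Matrix.of fun i j : Fin n => MvPolynomial.pderiv j (f i)))} :=
  kaehler_aux f (Ideal.Quotient.mkₐ A _) (Ideal.Quotient.mkₐ_surjective A _)
    (Ideal.Quotient.mkₐ_ker A _)

end Groth.Misc1.FittPres
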