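import Groth.Prelude.Def_TorSh
import Groth.Agent.CohTwo.PushClosed
import Groth.Agent.CohTwo.ColimStalk
import Groth.Agent.QCohMod.Affine
import Groth.Agent.QCohMod.Killed
import Mathlib.AlgebraicGeometry.FunctionField
import Mathlib.AlgebraicGeometry.Stalk
import Mathlib.LinearAlgebra.Dimension.Finite

/-!
# Torsion-free modules on integral schemes
-/

set_option autoImplicit false

universe u

open CategoryTheory CategoryTheory.Limits AlgebraicGeometry Opposite TopologicalSpace

namespace Groth.Misc1.TorSh

open Groth.QCohMod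

variable {X Y : Scheme.{u}}

/-- A nonempty open subset of an irreducible scheme contains the generic point. -/
lemma generic_mem [IrreducibleSpace X] {U : X.Opens} {x : X} (hx : x ∈ U) : genericPoint X ∈ U :=
  ((genericPoint_spec X).mem_open_set_iff U.isOpen).mpr ⟨x, trivial, hx⟩

lemma nonempty_of_mem {U : X.Opens} {x : X} (hx : x ∈ U) : Nonempty U := ⟨⟨x, hx⟩⟩

/-- A nonzero function on an integral scheme has nonzero germs. -/
lemma germ_ne_zero [IsIntegral X] {U : X.Opens} {x : X} (hx : x ∈ U) {a : Γ(X, U)} (ha : a ≠ 0) :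
    X.presheaf.germ U x hx a ≠ 0 := fun h =>
  ha (germ_injective_of_isIntegral X x hx (h.trans (map_zero _).symm))

/-- Sections with vanishing germs vanish. -/
lemma eq_zero_of_germ (M : X.Modules) {U : X.Opens} (s : Γ(M, U))
    (h : ∀ x (hx : x ∈ U), germ M x hx s = 0) : s = 0 :=
  TopCat.Presheaf.section_ext ⟨M.presheaf, M.isSheaf⟩ U s 0 fun x hx =>
    (h x hx).trans (map_zero (germ M x hx)).symm

lemma isTorsionFree_iff [IsIntegral X] (F : X.Modules) :
    _root_.TorSh.IsTorsionFree F ↔ ∀ (x : X) (a : X.presheaf.stalk x) (t : F.presheaf.stalk x),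
      a • t = 0 → a = 0 ∨ t = 0 :=
  forall_congr' fun _ => Module.isTorsionFree_iff_smul_eq_zero

/-- The function `f^# a` of a nonzero `a` is nonzero for a dominant morphism of integral schemes. -/
lemma app_ne_zero [IsIntegral X] [IsIntegral Y] (f : X ⟶ Y) [IsDominant f] {U : Y.Opens} {x : X}
    (hx : f x ∈ U) {a : Γ(Y, U)} (ha : a ≠ 0) : f.app U a ≠ 0 := by
  intro h0
  have hη : f (genericPoint X) = genericPoint Y :=
    ((genericPoint_spec X).image f.continuous).eq (by
      simpa [Set.image_univ, f.denseRange.closure_range] using genericPoint_spec Y)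
  have hmem : f (genericPoint X) ∈ U := hη ▸ generic_mem hx
  have h1 : f.stalkMap (genericPoint X) (Y.presheaf.germ U _ hmem a) = 0 := by
    rw [Scheme.Hom.germ_stalkMap_apply, h0, map_zero]
  have hK : IsField (Y.presheaf.stalk (f (genericPoint X))) := by
    rw [hη]; exact Field.toIsField Y.functionField
  let _ : Field (Y.presheaf.stalk (f (genericPoint X))) := hK.toField
  exact germ_ne_zero hmem ha ((map_eq_zero_iff _ (RingHom.injective
    (f.stalkMap (genericPoint X)).hom)).1 h1)

/-- The direct image of a torsion-free module under a dominant morphism is torsion-free. -/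
theorem isTorsionFree_pushforward [IsIntegral X] [IsIntegral Y] (f : X ⟶ Y) [IsDominant f]
    (F : X.Modules) (hF : _root_.TorSh.IsTorsionFree F) :
    _root_.TorSh.IsTorsionFree ((Scheme.Modules.pushforward f).obj F) := by
  rw [isTorsionFree_iff] at hF ⊢
  intro y a t hat
  obtain ⟨V, hV, s, rfl⟩ := exists_germ _ y t
  obtain ⟨W, hW, α, rfl⟩ := TopCat.Presheaf.exists_germ_eq Y.presheaf a
  rw [← TopCat.Presheaf.germ_res_apply Y.presheaf (homOfLE (inf_le_right : V ⊓ W ≤ W)) y ⟨hV, hW⟩ α,
    ← germ_res _ (inf_le_left : V ⊓ W ≤ V) y ⟨hV, hW⟩ s] at hat ⊢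
  set α' := Y.presheaf.map (homOfLE (inf_le_right : V ⊓ W ≤ W)).op α
  set s' := res ((Scheme.Modules.pushforward f).obj F) (inf_le_left : V ⊓ W ≤ V) s
  rw [← germ_smul] at hat
  obtain ⟨U, hU, i, i', hres⟩ := TopCat.Presheaf.germ_eq ((Scheme.Modules.pushforward f).obj F).presheaf
    y (show y ∈ V ⊓ W from ⟨hV, hW⟩) (show y ∈ V ⊓ W from ⟨hV, hW⟩) (α' • s') 0 (hat.trans (map_zero (germ _ y (U := V ⊓ W) ⟨hV, hW⟩)).symm)
  by_cases hα : α' = 0
  · exact Or.inl (by rw [hα, map_zero])
  refine Or.inr ?_
  rw [← germ_res _ i.le y hU s']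
  refine (congrArg (germ _ y hU) (?_ : res _ i.le s' = 0)).trans (map_zero _)
  have hzero : res ((Scheme.Modules.pushforward f).obj F) i.le (α' • s') = 0 :=
    hres.trans (map_zero _)
  refine eq_zero_of_germ F _ fun x hx => ?_
  have hsm : (f.app U (Y.presheaf.map (homOfLE i.le).op α')) •
      (show Γ(F, f ⁻¹ᵁ U) from res _ i.le s') = 0 :=
    (Scheme.Modules.map_smul ((Scheme.Modules.pushforward f).obj F) (homOfLE i.le) α' s').symm.trans hzero
  have h2 := congrArg (germ F x hx) hsm
  rw [germ_smul, map_zero] at h2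
  refine (hF x _ _ h2).resolve_left (germ_ne_zero hx (app_ne_zero f hx ?_))
  intro h3
  refine hα (germ_injective_of_isIntegral Y (f x) (i.le hx) ?_)
  rw [map_zero, ← TopCat.Presheaf.germ_res_apply Y.presheaf (homOfLE i.le) (f x) hx α']
  exact (congrArg _ h3).trans (map_zero _)

/-- On an integral scheme a germ of a quasi-coherent module vanishing at the generic point is torsion. -/
theorem exists_smul_eq_zero [IsIntegral X] (F : X.Modules) [F.IsQuasicoherent] {U : X.Opens} {x : X}
    (hx : x ∈ U) (s : Γ(F, U)) (h : germ F (genericPoint X) (generic_mem hx) s = 0) :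
    ∃ a : X.presheaf.stalk x, a ≠ 0 ∧ a • germ F x hx s = 0 := by
  obtain ⟨V, hV, hxV, hVU⟩ := exists_isAffineOpen_mem_and_subset (U := U) hx
  obtain ⟨a, ha, has⟩ := exists_smul_eq_zero_of_germ_eq_zero F hV (genericPoint X) (generic_mem hxV)
    (res F hVU s) (by rw [germ_res]; exact h)
  refine ⟨X.presheaf.germ V x hxV a, germ_ne_zero hxV ?_, ?_⟩
  · rintro rfl
    rw [Scheme.basicOpen_zero] at ha
    exact ha
  · rw [← germ_res F hVU x hxV s, ← germ_smul, has, map_zero]

/-- Germs of a torsion-free quasi-coherent module are determined at the generic point. -/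
theorem germ_eq_zero_of_generic [IsIntegral X] (F : X.Modules) [F.IsQuasicoherent]
    (hF : _root_.TorSh.IsTorsionFree F) {U : X.Opens} {x : X}
    (hx : x ∈ U) (s : Γ(F, U)) (h : germ F (genericPoint X) (generic_mem hx) s = 0) :
    germ F x hx s = 0 := by
  obtain ⟨a, ha, has⟩ := exists_smul_eq_zero F hx s h
  exact ((isTorsionFree_iff F).1 hF x a _ has).resolve_left ha

section RationalFunctions

variable (X) [IsIntegral X]

/-- The sheaf of rational functions. -/
noncomputable abbrev ratSheaf : X.Modules :=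
  (Scheme.Modules.pushforward (X.fromSpecStalk (genericPoint X))).obj
    (Coh.structureModule (Spec (X.presheaf.stalk (genericPoint X))))

instance isIntegral_specFunctionField : IsIntegral (Spec (X.presheaf.stalk (genericPoint X))) :=
  inferInstance

instance isDominant_fromSpecStalk : IsDominant (X.fromSpecStalk (genericPoint X)) :=
  ⟨by
    refine dense_iff_closure_eq.2 (Set.univ_subset_iff.1 ?_)
    rw [← show closure ({genericPoint X} : Set X) = Set.univ from genericPoint_spec X]
    exact closure_mono (Set.singleton_subset_iff.2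
      ⟨_, Scheme.fromSpecStalk_closedPoint (x := genericPoint X)⟩)⟩

variable {X}

lemma preimage_eq_top {U : X.Opens} (hU : genericPoint X ∈ U) :
    X.fromSpecStalk (genericPoint X) ⁻¹ᵁ U = ⊤ := by
  refine top_le_iff.1 fun z _ => ?_
  let _ : Field (X.presheaf.stalk (genericPoint X)) := inferInstanceAs (Field X.functionField)
  have : X.fromSpecStalk (genericPoint X) (IsLocalRing.closedPoint _) ∈ U := by
    rw [Scheme.fromSpecStalk_closedPoint]; exact hU
  show X.fromSpecStalk (genericPoint X) z ∈ U
  have hs : Subsingleton (Spec (X.presheaf.stalk (genericPoint X))) :=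
    inferInstanceAs (Subsingleton (PrimeSpectrum (X.presheaf.stalk (genericPoint X))))
  rwa [show z = IsLocalRing.closedPoint _ from Subsingleton.elim _ _]

/-- A rational function as a section over an open set. -/
noncomputable def val (U : X.Opens) :
    X.presheaf.stalk (genericPoint X) ⟶ Γ(Spec (X.presheaf.stalk (genericPoint X)),
      X.fromSpecStalk (genericPoint X) ⁻¹ᵁ U) :=
  (Scheme.ΓSpecIso (X.presheaf.stalk (genericPoint X))).inv ≫
    (Spec (X.presheaf.stalk (genericPoint X))).presheaf.map (homOfLE le_top).op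

lemma app_eq_val {U : X.Opens} (hU : genericPoint X ∈ U) (a : Γ(X, U)) :
    (X.fromSpecStalk (genericPoint X)).app U a = val U (X.presheaf.germ U _ hU a) := by
  rw [Scheme.fromSpecStalk_app hU]
  rfl

lemma val_res {U V : X.Opens} (h : V ≤ U)
    (i : op (X.fromSpecStalk (genericPoint X) ⁻¹ᵁ U) ⟶ op (X.fromSpecStalk (genericPoint X) ⁻¹ᵁ V))
    (k : X.presheaf.stalk (genericPoint X)) :
    (Spec (X.presheaf.stalk (genericPoint X))).presheaf.map i (val U k) = val V k := by
  rw [val, val, ← ConcreteCategory.comp_apply, Category.assoc, ← Functor.map_comp]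
  rfl

lemma val_injective {U : X.Opens} (hU : genericPoint X ∈ U) : Function.Injective (val U) := by
  let _ : Field (X.presheaf.stalk (genericPoint X)) := inferInstanceAs (Field X.functionField)
  have : Nonempty (X.fromSpecStalk (genericPoint X) ⁻¹ᵁ U : (Spec (X.presheaf.stalk (genericPoint X))).Opens) :=
    ⟨⟨IsLocalRing.closedPoint _, by rw [preimage_eq_top hU]; trivial⟩⟩
  exact RingHom.injective (val U).hom

lemma val_surjective {U : X.Opens} (hU : genericPoint X ∈ U) : Function.Surjective (val U) := by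
  have h : IsIso (val U) := by
    rw [val]
    have : IsIso (homOfLE (le_top : X.fromSpecStalk (genericPoint X) ⁻¹ᵁ U ≤ ⊤)).op := by
      refine @isIso_op _ _ _ _ _ ⟨homOfLE (preimage_eq_top hU).ge, rfl, rfl⟩
    infer_instance
  exact ((ConcreteCategory.isIso_iff_bijective _).1 h).2

/-- The generic stalk of the sheaf of rational functions is at most one-dimensional. -/
lemma exists_smul_eq_ratSheaf (t : (ratSheaf X).presheaf.stalk (genericPoint X)) :
    ∃ c : X.presheaf.stalk (genericPoint X),
      c • germ (ratSheaf X) (genericPoint X) (U := ⊤) trivial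
        (show Γ(Coh.structureModule (Spec (X.presheaf.stalk (genericPoint X))), _) from
          (1 : Γ(Spec (X.presheaf.stalk (genericPoint X)),
            X.fromSpecStalk (genericPoint X) ⁻¹ᵁ ⊤))) = t := by
  obtain ⟨U, hU, s, rfl⟩ := exists_germ _ _ t
  obtain ⟨k, hk⟩ := val_surjective hU (show Γ(Spec (X.presheaf.stalk (genericPoint X)),
      X.fromSpecStalk (genericPoint X) ⁻¹ᵁ U) from s)
  obtain ⟨W, hW, a, rfl⟩ := TopCat.Presheaf.exists_germ_eq X.presheaf k
  refine ⟨X.presheaf.germ W _ hW a, ?_⟩
  rw [← germ_res _ (le_top : U ⊓ W ≤ ⊤) _ ⟨hU, hW⟩,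
    ← TopCat.Presheaf.germ_res_apply X.presheaf (homOfLE (inf_le_right : U ⊓ W ≤ W)) _ ⟨hU, hW⟩ a,
    ← germ_smul, ← germ_res _ (inf_le_left : U ⊓ W ≤ U) _ ⟨hU, hW⟩ s]
  congr 1
  have key : ∀ (V : X.Opens) (hVU : V ≤ U) (hV : genericPoint X ∈ V) (b : Γ(X, V)),
      X.presheaf.germ V _ hV b = X.presheaf.germ W _ hW a →
      (X.fromSpecStalk (genericPoint X)).app V b *
        (Spec (X.presheaf.stalk (genericPoint X))).presheaf.map
          (homOfLE (Scheme.Hom.preimage_mono _ (le_top : V ≤ ⊤))).op 1 =
      (Spec (X.presheaf.stalk (genericPoint X))).presheaf.map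
        (homOfLE (Scheme.Hom.preimage_mono _ hVU)).op (val U (X.presheaf.germ W _ hW a)) := by
    intro V hVU hV b hb
    rw [map_one, mul_one, app_eq_val hV, hb, val_res hVU]
  rw [hk] at key
  exact key (U ⊓ W) inf_le_left ⟨hU, hW⟩ _ (TopCat.Presheaf.germ_res_apply _ _ _ _ _)

/-- The morphism to the sheaf of rational functions given by a linear form on the generic stalk. -/
theorem exists_hom_ratSheaf (F : X.Modules)
    (e : F.presheaf.stalk (genericPoint X) →ₗ[X.presheaf.stalk (genericPoint X)]
      X.presheaf.stalk (genericPoint X)) :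
    ∃ φ : F ⟶ ratSheaf X, ∀ (U : X.Opens) (hU : genericPoint X ∈ U) (s : Γ(F, U)),
      (show Γ(Spec (X.presheaf.stalk (genericPoint X)), X.fromSpecStalk (genericPoint X) ⁻¹ᵁ U) from
        φ.app U s) = val U (e (germ F (genericPoint X) hU s)) := by
  classical
  let ap : ∀ U : X.Opens, Γ(F, U) →+ Γ(ratSheaf X, U) := fun U =>
    if hU : genericPoint X ∈ U then
      ((val U).hom.toAddMonoidHom.comp (e.toAddMonoidHom.comp (germ F (genericPoint X) hU)) :
        Γ(F, U) →+ Γ(Spec (X.presheaf.stalk (genericPoint X)),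
          X.fromSpecStalk (genericPoint X) ⁻¹ᵁ U))
    else 0
  have hap : ∀ (U : X.Opens) (hU : genericPoint X ∈ U) (s : Γ(F, U)),
      ap U s = val U (e (germ F (genericPoint X) hU s)) := fun U hU s => by
    simp only [ap, dif_pos hU]
    rfl
  have hsub : ∀ U : X.Opens, genericPoint X ∉ U → Subsingleton Γ(ratSheaf X, U) := fun U hU => by
    have h0 : X.fromSpecStalk (genericPoint X) ⁻¹ᵁ U = ⊥ := by
      refine le_bot_iff.1 fun z hz => hU (generic_mem hz)
    show Subsingleton Γ(Spec (X.presheaf.stalk (genericPoint X)), X.fromSpecStalk (genericPoint X) ⁻¹ᵁ U)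
    rw [h0]
    infer_instance
  let nat : F.presheaf ⟶ (ratSheaf X).presheaf :=
    { app := fun U => AddCommGrpCat.ofHom (ap U.unop)
      naturality := fun U V i => by
        refine AddCommGrpCat.hom_ext (AddMonoidHom.ext fun s => ?_)
        by_cases hV : genericPoint X ∈ V.unop
        · have hU : genericPoint X ∈ U.unop := i.unop.le hV
          change ap V.unop (F.presheaf.map i s) =
            (Spec (X.presheaf.stalk (genericPoint X))).presheaf.map _ (ap U.unop s)
          rw [hap _ hV, hap _ hU]
          change val _ (e (F.presheaf.germ V.unop _ hV (F.presheaf.map i.unop.op s))) = _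
          rw [TopCat.Presheaf.germ_res_apply]
          exact (val_res i.unop.le _ _).symm
        · exact @Subsingleton.elim _ (hsub _ hV) _ _ }
  refine ⟨⟨PresheafOfModules.homMk nat fun U r s => ?_⟩, hap⟩
  by_cases hU : genericPoint X ∈ U.unop
  · change ap U.unop ((show Γ(X, U.unop) from r) • (show Γ(F, U.unop) from s)) =
      (X.fromSpecStalk (genericPoint X)).app U.unop r *
        (show Γ(Spec (X.presheaf.stalk (genericPoint X)),
          X.fromSpecStalk (genericPoint X) ⁻¹ᵁ U.unop) from ap U.unop s)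
    rw [hap _ hU, hap _ hU, germ_smul, map_smul, smul_eq_mul, map_mul, app_eq_val hU]
  · exact @Subsingleton.elim _ (hsub _ hU) _ _

end RationalFunctions

end Groth.Misc1.TorSh
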