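import Groth.Agent.Misc1.Telescope
import Mathlib.CategoryTheory.Triangulated.HomologicalFunctor
import Mathlib.CategoryTheory.Limits.Preserves.Shapes.Products
import Mathlib.Algebra.Homology.DerivedCategory.ShortExact
import Mathlib.Algebra.Homology.GrothendieckAbelian

/-!
# Telescopes under additive functors, homotopy colimits
-/

set_option autoImplicit false
set_option linter.style.haveILetI false

universe w v v' u u'

open CategoryTheory CategoryTheory.Limits CategoryTheory.Pretriangulated

namespace Groth.Misc1.Telescope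

section Functor

variable {D : Type u} [Category.{v} D] [Preadditive D] {A : Type u'} [Category.{v'} A] [Preadditive A]
  (G : D ⥤ A) [G.Additive] (K : ℕ → D) (f : ∀ n, K n ⟶ K (n + 1)) [HasCoproduct K]
  [HasCoproduct fun n => G.obj (K n)]

/-- the canonical comparison -/
noncomputable abbrev cmp : (∐ fun n => G.obj (K n)) ⟶ G.obj (∐ K) := sigmaComparison G K

lemma one_sub_shift_cmp :
    (𝟙 (∐ fun n => G.obj (K n)) - DerLim.shiftMap (fun n => G.obj (K n)) (fun n => G.map (f n))) ≫
      cmp G K = cmp G K ≫ G.map (𝟙 (∐ K) - DerLim.shiftMap K f) := by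
  refine Sigma.hom_ext _ _ fun n => ?_
  simp only [Preadditive.sub_comp, Category.id_comp, Preadditive.comp_sub, Functor.map_sub,
    G.map_id, Category.comp_id, DerLim.shiftMap, cmp, Sigma.ι_desc_assoc, Category.assoc,
    ι_comp_sigmaComparison, ι_comp_sigmaComparison_assoc, ← G.map_comp, Sigma.ι_desc]

end Functor

section Homological

variable {D : Type u} [Category.{v} D] [Preadditive D] {A : Type u'} [Category.{v'} A] [Abelian A]
  (G : D ⥤ A) [G.Additive] (K : ℕ → D) (f : ∀ n, K n ⟶ K (n + 1)) [HasCoproduct K]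
  [HasColimitsOfShape ℕ A] [HasExactColimitsOfShape ℕ A]
  [PreservesColimit (Discrete.functor K) G]

omit [Preadditive D] [Abelian A] [G.Additive] [HasColimitsOfShape ℕ A] [HasExactColimitsOfShape ℕ A] in
lemma hasCoproduct_map : HasCoproduct fun n => G.obj (K n) :=
  ⟨⟨_, isColimitCofanMkObjOfIsColimit G K (Sigma.ι K) (coproductIsCoproduct K)⟩⟩

theorem mono_map_one_sub_shift : Mono (G.map (𝟙 (∐ K) - DerLim.shiftMap K f)) := by
  haveI := hasCoproduct_map G K
  haveI : IsIso (cmp G K) := inferInstanceAs (IsIso (sigmaComparison G K))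
  have h := one_sub_shift_cmp G K f
  have : G.map (𝟙 (∐ K) - DerLim.shiftMap K f) = inv (cmp G K) ≫
      (𝟙 (∐ fun n => G.obj (K n)) - DerLim.shiftMap (fun n => G.obj (K n)) (fun n => G.map (f n))) ≫
      cmp G K := by rw [h, IsIso.inv_hom_id_assoc]
  rw [this]
  haveI := mono_one_sub_shift (fun n => G.obj (K n)) (fun n => G.map (f n))
  infer_instance

end Homological

theorem colimit_iso_of_isHocolim {D : Type u} [Category.{v} D] [Preadditive D] [HasZeroObject D]
    [HasShift D ℤ] [∀ n : ℤ, (shiftFunctor D n).Additive] [Pretriangulated D]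
    [HasColimitsOfShape (Discrete ℕ) D] {A : Type u'} [Category.{v'} A] [Abelian A]
    [HasColimitsOfShape ℕ A] [HasExactColimitsOfShape ℕ A]
    (H : D ⥤ A) [H.IsHomological] [PreservesColimitsOfShape (Discrete ℕ) H]
    (K : ℕ → D) (f : ∀ n, K n ⟶ K (n + 1)) (L : D) (i : ∀ n, K n ⟶ L)
    (hL : DerLim.IsHocolim K f L i) :
    ∃ e : colimit (Functor.ofSequence (fun n => H.map (f n))) ≅ H.obj L,
      ∀ n : ℕ, colimit.ι (Functor.ofSequence (fun n => H.map (f n))) n ≫ e.hom = H.map (i n) := by
  obtain ⟨c, hT⟩ := hL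
  set u := 𝟙 (∐ K) - DerLim.shiftMap K f with hu
  have huI : u ≫ Sigma.desc i = 0 := comp_distTriang_mor_zero₁₂ _ hT
  have hfi : ∀ n, f n ≫ i (n + 1) = i n := fun n => by
    have h := congrArg (Sigma.ι K n ≫ ·) huI
    simp only [hu, Preadditive.sub_comp, Category.id_comp, Preadditive.comp_sub, DerLim.shiftMap,
      Sigma.ι_desc_assoc, Category.assoc, Sigma.ι_desc, comp_zero, sub_eq_zero] at h
    exact h.symm
  -- the image of `u[1]` is mono
  haveI : Mono (H.map (u⟦(1 : ℤ)⟧')) :=
    mono_map_one_sub_shift (shiftFunctor D (1 : ℤ) ⋙ H) K f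
  have h₂ := H.map_distinguished_exact _ hT
  have h₄ := H.map_distinguished_exact _ (rot_of_distTriang _ (rot_of_distTriang _ hT))
  have hc0 : H.map c = 0 := by
    haveI : Mono (H.map (-u⟦(1 : ℤ)⟧')) := by rw [Functor.map_neg]; infer_instance
    rw [← cancel_mono (H.map (-u⟦(1 : ℤ)⟧')), zero_comp]
    exact ((shortComplexOfDistTriangle _ (rot_of_distTriang _ (rot_of_distTriang _ hT))).map H).zero
  haveI : Epi (H.map (Sigma.desc i)) :=
    (H.map_distinguished_exact _ (rot_of_distTriang _ hT)).epi_f hc0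
  let F := Functor.ofSequence (fun n => H.map (f n))
  let φ : colimit F ⟶ H.obj L := colimit.desc F ⟨H.obj L,
    NatTrans.ofSequence (fun n => H.map (i n)) fun n => by
      rw [Functor.ofSequence_map_homOfLE_succ]
      exact ((H.map_comp _ _).symm.trans (congrArg H.map (hfi n))).trans (Category.comp_id _).symm⟩
  haveI := hasCoproduct_map H K
  haveI : IsIso (cmp H K) := inferInstanceAs (IsIso (sigmaComparison H K))
  let π : H.obj (∐ K) ⟶ colimit F := inv (cmp H K) ≫ Sigma.desc fun n => colimit.ι F n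
  have hπ : H.map u ≫ π = 0 := by
    rw [← cancel_epi (cmp H K), comp_zero, hu, ← Category.assoc, ← one_sub_shift_cmp, Category.assoc]
    simp only [π, IsIso.hom_inv_id_assoc]
    refine Sigma.hom_ext _ _ fun n => ?_
    simp only [Preadditive.sub_comp, Category.id_comp, Preadditive.comp_sub, DerLim.shiftMap,
      Sigma.ι_desc_assoc, Category.assoc, Sigma.ι_desc, comp_zero, sub_eq_zero]
    have := colimit.w F (homOfLE (Nat.le_add_right n 1))
    rw [Functor.ofSequence_map_homOfLE_succ] at this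
    exact this.symm
  haveI : Epi ((shortComplexOfDistTriangle _ hT).map H).g := ‹Epi (H.map (Sigma.desc i))›
  have hcoker := h₂.gIsCokernel
  let ψ : H.obj L ⟶ colimit F := hcoker.desc (CokernelCofork.ofπ π hπ)
  have hψ : H.map (Sigma.desc i) ≫ ψ = π := hcoker.fac (CokernelCofork.ofπ π hπ) WalkingParallelPair.one
  have hπφ : π ≫ φ = H.map (Sigma.desc i) := by
    rw [← cancel_epi (cmp H K)]
    simp only [π, Category.assoc, IsIso.hom_inv_id_assoc]
    refine Sigma.hom_ext _ _ fun n => ?_
    simp [φ, ι_comp_sigmaComparison_assoc, ← H.map_comp]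
    exact colimit.ι_desc _ _
  refine ⟨⟨φ, ψ, colimit.hom_ext fun n => ?_, ?_⟩, fun n => colimit.ι_desc _ _⟩
  · have h := congrArg (fun k => H.map (Sigma.ι K n) ≫ k) hψ
    simp only [π, ← H.map_comp_assoc, Sigma.ι_desc] at h
    rw [colimit.ι_desc_assoc, Category.comp_id]
    refine h.trans ?_
    rw [← ι_comp_sigmaComparison H K n, Category.assoc, IsIso.hom_inv_id_assoc]
    exact Sigma.ι_desc _ _
  · rw [← cancel_epi (H.map (Sigma.desc i)), ← Category.assoc, hψ, hπφ, Category.comp_id]

theorem isHocolim_Q {A : Type u} [Category.{v} A] [Abelian A] [HasDerivedCategory.{w} A]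
    [HasColimitsOfShape ℕ A] [HasExactColimitsOfShape ℕ A]
    (L : ℕ ⥤ CochainComplex A ℤ) [HasCoproduct L.obj]
    [PreservesColimit (Discrete.functor L.obj) (DerivedCategory.Q (C := A))]
    [HasCoproduct (fun n => DerivedCategory.Q.obj (L.obj n))] :
    DerLim.IsHocolim (fun n => DerivedCategory.Q.obj (L.obj n))
      (fun n => DerivedCategory.Q.map (L.map (homOfLE (Nat.le_succ n))))
      (DerivedCategory.Q.obj (colimit L)) (fun n => DerivedCategory.Q.map (colimit.ι L n)) := by
  obtain ⟨w, hS⟩ := telescope_shortExact L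
  haveI : IsIso (cmp DerivedCategory.Q L.obj) :=
    inferInstanceAs (IsIso (sigmaComparison DerivedCategory.Q L.obj))
  let e : (∐ fun n => DerivedCategory.Q.obj (L.obj n)) ≅ DerivedCategory.Q.obj (∐ L.obj) :=
    asIso (cmp DerivedCategory.Q L.obj)
  refine ⟨DerivedCategory.triangleOfSESδ hS ≫ e.inv⟦(1 : ℤ)⟧', isomorphic_distinguished _
    (DerivedCategory.triangleOfSES_distinguished hS) _
    (Triangle.isoMk _ _ e e (Iso.refl _) ?_ ?_ ?_)⟩
  · exact one_sub_shift_cmp DerivedCategory.Q L.obj (fun n => L.map (homOfLE (Nat.le_succ n)))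
  · change Sigma.desc (fun n => DerivedCategory.Q.map (colimit.ι L n)) ≫ 𝟙 _ =
      e.hom ≫ DerivedCategory.Q.map (Sigma.desc fun n => colimit.ι L n)
    refine Sigma.hom_ext _ _ fun n => ?_
    simp [e, ι_comp_sigmaComparison_assoc, ← Functor.map_comp]
  · change (DerivedCategory.triangleOfSESδ hS ≫ e.inv⟦(1 : ℤ)⟧') ≫ e.hom⟦(1 : ℤ)⟧' =
      𝟙 _ ≫ DerivedCategory.triangleOfSESδ hS
    rw [Category.assoc, ← Functor.map_comp, Iso.inv_hom_id, CategoryTheory.Functor.map_id, Category.comp_id,
      Category.id_comp]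

end Groth.Misc1.Telescope
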