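import Groth.Prelude.Def_DerLim
import Mathlib.CategoryTheory.Abelian.GrothendieckAxioms.Basic
import Mathlib.CategoryTheory.Abelian.GrothendieckAxioms.Colim
import Mathlib.CategoryTheory.Functor.OfSequence
import Mathlib.Algebra.Homology.ShortComplex.ShortExact

/-!
# The telescope short exact sequence of a sequential system
-/

set_option autoImplicit false
set_option linter.style.haveILetI false

universe v u

open CategoryTheory CategoryTheory.Limits

namespace Groth.Misc1.Telescope

variable {A : Type u} [Category.{v} A] [Abelian A] (K : ℕ → A) (f : ∀ n, K n ⟶ K (n + 1))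
  [HasCoproduct K]

/-- the projection onto the summands of index `< N` -/
noncomputable def ePr (N : ℕ) : (∐ K) ⟶ ∐ K := Sigma.desc fun n => if n < N then Sigma.ι K n else 0

@[reassoc]
lemma ι_ePr (N n : ℕ) : Sigma.ι K n ≫ ePr K N = if n < N then Sigma.ι K n else 0 :=
  Sigma.ι_desc _ _

lemma ePr_zero : ePr K 0 = 0 := Sigma.hom_ext _ _ fun n => by simp [ι_ePr]

lemma shift_ePr (N : ℕ) :
    DerLim.shiftMap K f ≫ ePr K (N + 1) = ePr K N ≫ DerLim.shiftMap K f := by
  refine Sigma.hom_ext _ _ fun n => ?_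
  rw [DerLim.shiftMap, Sigma.ι_desc_assoc, Category.assoc, ι_ePr, ι_ePr_assoc]
  by_cases h : n < N
  · rw [if_pos h, if_pos (Nat.succ_lt_succ h), Sigma.ι_desc]
  · rw [if_neg h, if_neg (fun h' => h (Nat.lt_of_succ_lt_succ h')), comp_zero, zero_comp]

variable [HasColimitsOfShape ℕ A]

/-- the sequence of complements of the partial projections -/
noncomputable abbrev Q : ℕ ⥤ A := Functor.ofSequence (fun N => 𝟙 (∐ K) - ePr K (N + 1))

omit [HasColimitsOfShape ℕ A] in
lemma seq_eq_zero {Z : A} (q : ℕ → ((∐ K) ⟶ Z))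
    (step : ∀ M, (𝟙 (∐ K) - ePr K (M + 1)) ≫ q (M + 1) = q M) (N : ℕ) : q N = 0 := by
  refine Sigma.hom_ext _ _ fun n => ?_
  rw [comp_zero]
  have hge : ∀ M, n ≤ M → Sigma.ι K n ≫ q M = 0 := fun M hM => by
    rw [← step M, Preadditive.sub_comp, Category.id_comp, Preadditive.comp_sub, ι_ePr_assoc,
      if_pos (Nat.lt_succ_of_le hM), sub_self]
  rcases le_total n N with h | h
  · exact hge N h
  · induction h using Nat.decreasingInduction with
    | self => exact hge n le_rfl
    | of_succ M hM ih =>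
      rw [← step M, Preadditive.sub_comp, Category.id_comp, Preadditive.comp_sub, ι_ePr_assoc,
        if_neg (by omega), zero_comp, sub_zero, ih]

lemma ι_Q_eq_zero (N : ℕ) : colimit.ι (Q K) N = 0 :=
  seq_eq_zero K (fun M => colimit.ι (Q K) M) (fun M => by
    have h := colimit.w (Q K) (homOfLE (Nat.le_add_right M 1))
    rwa [Functor.ofSequence_map_homOfLE_succ] at h) N

variable [HasExactColimitsOfShape ℕ A]

theorem mono_one_sub_shift : Mono (𝟙 (∐ K) - DerLim.shiftMap K f) := by
  refine Preadditive.mono_of_kernel_zero (w := ?_)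
  set u := 𝟙 (∐ K) - DerLim.shiftMap K f
  let g := kernel.ι u
  have hg : g ≫ DerLim.shiftMap K f = g := by
    have h := kernel.condition u
    simp only [u, Preadditive.comp_sub, Category.comp_id, sub_eq_zero] at h
    exact h.symm
  have hgN : ∀ N, g ≫ ePr K N = 0 := by
    intro N
    induction N with
    | zero => rw [ePr_zero, comp_zero]
    | succ N ih =>
      rw [← hg, Category.assoc, shift_ePr, ← Category.assoc, ih, zero_comp]
  let τ : (Functor.const ℕ).obj (kernel u) ⟶ Q K := NatTrans.ofSequence (fun _ => g) fun N => by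
    rw [Functor.ofSequence_map_homOfLE_succ]
    change 𝟙 (kernel u) ≫ g = g ≫ (𝟙 (∐ K) - ePr K (N + 1))
    rw [Category.id_comp, Preadditive.comp_sub, Category.comp_id, hgN (N + 1), sub_zero]
  haveI : ∀ N, Mono (τ.app N) := fun N => inferInstanceAs (Mono g)
  haveI : Mono τ := NatTrans.mono_of_mono_app τ
  haveI : Mono (colimMap τ) := inferInstanceAs (Mono (colim.map τ))
  have h0 : colimit.ι ((Functor.const ℕ).obj (kernel u)) 0 = 0 := by
    rw [← cancel_mono (colimMap τ), zero_comp, ι_colimMap, ι_Q_eq_zero, comp_zero]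
  let c : Cocone ((Functor.const ℕ).obj (kernel u)) := ⟨kernel u, 𝟙 _⟩
  have h1 : 𝟙 (kernel u) = 0 := by
    have := colimit.ι_desc c 0
    rw [h0, zero_comp] at this
    exact this.symm
  rw [← Category.id_comp (kernel.ι u), h1, zero_comp]


theorem telescope_shortExact (F : ℕ ⥤ A) [HasCoproduct F.obj] :
    ∃ w : (𝟙 (∐ F.obj) - DerLim.shiftMap F.obj (fun n => F.map (homOfLE (Nat.le_succ n)))) ≫
        Sigma.desc (fun n => colimit.ι F n) = 0,
      (ShortComplex.mk _ _ w).ShortExact := by
  refine ⟨Sigma.hom_ext _ _ fun n => ?_, ?_⟩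
  · simp only [Preadditive.sub_comp, Category.id_comp, Preadditive.comp_sub, DerLim.shiftMap,
      Sigma.ι_desc_assoc, Category.assoc, Sigma.ι_desc, comp_zero, sub_eq_zero]
    exact (colimit.w F (homOfLE (Nat.le_succ n))).symm
  · haveI : Epi (Sigma.desc fun n => colimit.ι F n) :=
      ⟨fun a b h => colimit.hom_ext fun n => by simpa using congrArg (Sigma.ι F.obj n ≫ ·) h⟩
    refine ShortComplex.ShortExact.mk' ?_ (mono_one_sub_shift _ _) ‹_›
    refine ShortComplex.exact_of_g_is_cokernel _ (CokernelCofork.IsColimit.ofπ' _ _ fun g hg => ?_)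
    have hstep : ∀ n, F.map (homOfLE (Nat.le_succ n)) ≫ Sigma.ι F.obj (n + 1) ≫ g =
        Sigma.ι F.obj n ≫ g := fun n => by
      have h := congrArg (Sigma.ι F.obj n ≫ ·) hg
      simp only [Preadditive.sub_comp, Category.id_comp, Preadditive.comp_sub, DerLim.shiftMap,
        Sigma.ι_desc_assoc, Category.assoc, comp_zero, sub_eq_zero] at h
      exact h.symm
    exact ⟨colimit.desc F ⟨_, NatTrans.ofSequence (fun n => Sigma.ι F.obj n ≫ g)
      fun n => by simpa using! hstep n⟩, Sigma.hom_ext _ _ fun n => by simp⟩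

end Groth.Misc1.Telescope
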