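import Groth.Prelude.Def_DerLim
import Groth.Agent.DerivedCoh.Compact
import Mathlib.CategoryTheory.Triangulated.Generators

/-!
# Maps from compact objects into cellular towers factor through finite envelopes
-/

set_option autoImplicit false
set_option linter.style.haveILetI false

universe v u

open CategoryTheory CategoryTheory.Limits CategoryTheory.Pretriangulated

namespace Groth.Misc1.CompactEnvelope

variable {D : Type u} [Category.{v} D] [Preadditive D] [HasZeroObject D] [HasShift D ℤ]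
  [∀ n : ℤ, (shiftFunctor D n).Additive] [Pretriangulated D] [IsTriangulated D] [HasCoproducts.{v} D]
  {ι : Type v} [Nonempty ι] (E : ι → D)

open Classical in
/-- the envelope of a finite subfamily, enlarged by one member -/
noncomputable def env (s : Finset ι) : ObjectProperty D :=
  ObjectProperty.triangEnvelope fun Y : D => ∃ i ∈ insert (Classical.arbitrary ι) s, Y = E i

instance env_isTriangulated (s : Finset ι) : (env E s).IsTriangulated := by
  classical
  haveI : ObjectProperty.Nonempty fun Y : D => ∃ i ∈ insert (Classical.arbitrary ι) s, Y = E i :=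
    ObjectProperty.nonempty_of_prop (X := E (Classical.arbitrary ι))
      ⟨_, Finset.mem_insert_self _ _, rfl⟩
  unfold env
  infer_instance

instance env_retracts (s : Finset ι) : (env E s).IsStableUnderRetracts := by
  classical
  unfold env
  infer_instance

lemma env_mono {s t : Finset ι} (h : s ⊆ t) : env E s ≤ env E t := by
  classical
  refine ObjectProperty.monotone_triangEnvelope fun Y ⟨i, hi, hY⟩ => ⟨i, ?_, hY⟩
  exact Finset.insert_subset_insert _ h hi

lemma env_mem (i : ι) : env E {i} (E i) := by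
  classical
  exact ObjectProperty.le_triangEnvelope _ _ ⟨i, Finset.mem_insert_of_mem (Finset.mem_singleton_self i), rfl⟩

/-- a map factors through a compact object of the envelope of a finite subfamily -/
def Fact {C K : D} (φ : C ⟶ K) : Prop :=
  ∃ (s : Finset ι) (B : D) (g : C ⟶ B) (h : B ⟶ K),
    env E s B ∧ CohDer.IsCompactObject B ∧ g ≫ h = φ

variable {E}

lemma Fact.comp {C K K' : D} {φ : C ⟶ K} (hφ : Fact E φ) (k : K ⟶ K') : Fact E (φ ≫ k) := by
  obtain ⟨s, B, g, h, hB, hc, rfl⟩ := hφ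
  exact ⟨s, B, g, h ≫ k, hB, hc, (Category.assoc _ _ _).symm⟩

lemma Fact.precomp {C C' K : D} {φ : C ⟶ K} (hφ : Fact E φ) (k : C' ⟶ C) : Fact E (k ≫ φ) := by
  obtain ⟨s, B, g, h, hB, hc, rfl⟩ := hφ
  exact ⟨s, B, k ≫ g, h, hB, hc, Category.assoc _ _ _⟩

lemma Fact.map_shift {C K : D} {φ : C ⟶ K} (hφ : Fact E φ) (m : ℤ) : Fact E (φ⟦m⟧') := by
  obtain ⟨s, B, g, h, hB, hc, rfl⟩ := hφ
  exact ⟨s, B⟦m⟧, g⟦m⟧', h⟦m⟧', (env E s).le_shift m _ hB, DerivedCoh.Compact.shift hc m,
    (Functor.map_comp _ _ _).symm⟩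

lemma fact_zero (C K : D) : Fact E (0 : C ⟶ K) := by
  obtain ⟨Z, hZ, hP⟩ := (env E ∅).exists_prop_of_containsZero
  exact ⟨∅, Z, 0, 0, hP, DerivedCoh.Compact.of_isZero hZ, zero_comp⟩

lemma Fact.add {C K : D} {φ ψ : C ⟶ K} (hφ : Fact E φ) (hψ : Fact E ψ) : Fact E (φ + ψ) := by
  classical
  obtain ⟨s, B, g, h, hB, hc, rfl⟩ := hφ
  obtain ⟨s', B', g', h', hB', hc', rfl⟩ := hψ
  haveI := HasBinaryBiproducts.of_hasBinaryProducts (C := D)
  have hT := binaryBiproductTriangle_distinguished B B'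
  exact ⟨s ∪ s', B ⊞ B', biprod.lift g g', biprod.desc h h',
    (env E (s ∪ s')).ext_of_isTriangulatedClosed₂ _ hT (env_mono E Finset.subset_union_left _ hB)
      (env_mono E Finset.subset_union_right _ hB'),
    DerivedCoh.Compact.of_triangle₂ _ hT hc hc', biprod.lift_desc⟩

/-- Maps from a compact object into a direct sum of shifts of the members. -/
lemma fact_coprod (hc : ∀ i, CohDer.IsCompactObject (E i)) {C : D} (hC : CohDer.IsCompactObject C)
    {κ : Type v} (a : κ → ι) (m : κ → ℤ)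
    (φ : C ⟶ ∐ fun k => (shiftFunctor D (m k)).obj (E (a k))) : Fact E φ := by
  classical
  obtain ⟨x, rfl⟩ := (hC κ _).2 φ
  induction x using DirectSum.induction_on with
  | zero => rw [map_zero]; exact fact_zero _ _
  | of k f =>
    rw [DerivedCoh.Compact.homSum_of]
    exact ⟨{a k}, _, f, _, (env E {a k}).le_shift (m k) _ (env_mem E (a k)),
      DerivedCoh.Compact.shift (hc (a k)) (m k), rfl⟩
  | add x y hx hy => rw [map_add]; exact hx.add hy

theorem fact_tower (hc : ∀ i, CohDer.IsCompactObject (E i))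
    (K : ℕ → D) (f : ∀ n, K n ⟶ K (n + 1))
    (h0 : ∃ (κ : Type v) (a : κ → ι) (m : κ → ℤ), Nonempty (K 0 ≅ ∐ (fun k => (shiftFunctor D (m k)).obj (E (a k)))))
    (hstep : ∀ n, ∃ (κ : Type v) (a : κ → ι) (m : κ → ℤ) (y : (∐ fun k => (shiftFunctor D (m k)).obj (E (a k))) ⟶ K n)
      (z : K (n + 1) ⟶ (shiftFunctor D (1 : ℤ)).obj (∐ fun k => (shiftFunctor D (m k)).obj (E (a k)))),
      Triangle.mk y (f n) z ∈ distinguishedTriangles)
    (n : ℕ) : ∀ (C : D), CohDer.IsCompactObject C → ∀ φ : C ⟶ K n, Fact E φ := by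
  induction n with
  | zero =>
    intro C hC φ
    obtain ⟨κ, a, m, ⟨e⟩⟩ := h0
    simpa using (fact_coprod hc hC a m (φ ≫ e.hom)).comp e.inv
  | succ n ih =>
    intro C hC φ
    obtain ⟨κ, a, m, y, z, hT⟩ := hstep n
    -- factor the boundary through a finite part
    let S := shiftEquiv D (1 : ℤ)
    obtain ⟨w, hw⟩ : ∃ w : C⟦(-1 : ℤ)⟧ ⟶ ∐ fun k => (shiftFunctor D (m k)).obj (E (a k)), S.counitIso.inv.app C ≫ w⟦(1 : ℤ)⟧' = φ ≫ z := by
      refine ⟨(shiftFunctor D (1 : ℤ)).preimage (S.counitIso.hom.app C ≫ φ ≫ z), ?_⟩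
      erw [Functor.map_preimage]
      exact Iso.inv_hom_id_app_assoc _ _ _
    obtain ⟨s, B, g, h, hB, hBc, hgh⟩ :=
      fact_coprod hc (DerivedCoh.Compact.shift hC (-1)) a m w
    let ψ₀ : C ⟶ B⟦(1 : ℤ)⟧ := S.counitIso.inv.app C ≫ g⟦(1 : ℤ)⟧'
    have hψ₀ : ψ₀ ≫ h⟦(1 : ℤ)⟧' = φ ≫ z := by
      simp only [ψ₀, Category.assoc]
      exact (congrArg (_ ≫ ·) ((Functor.map_comp _ _ _).symm.trans (congrArg _ hgh))).trans hw
    obtain ⟨C', u, v', hT₀⟩ := distinguished_cocone_triangle₂ ψ₀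
    have hC' : CohDer.IsCompactObject C' := DerivedCoh.Compact.of_triangle₂ _ hT₀ hBc hC
    obtain ⟨φ', h₁, -⟩ := complete_distinguished_triangle_morphism₂ _ _ hT₀ hT h φ hψ₀
    obtain ⟨s', B', g', h', hB', hB'c, hgh'⟩ := ih C' hC' φ'
    change C' ⟶ K n at φ'
    change u ≫ φ' = h ≫ y at h₁
    change g' ≫ h' = φ' at hgh'
    obtain ⟨B'', p, c, hT''⟩ := distinguished_cocone_triangle (u ≫ g')
    obtain ⟨α, -, hα⟩ := complete_distinguished_triangle_morphism _ _ hT₀ hT'' (𝟙 B) g'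
      (show u ≫ g' = 𝟙 B ≫ u ≫ g' from (Category.id_comp _).symm)
    obtain ⟨β, -, hβ⟩ := complete_distinguished_triangle_morphism _ _ hT'' hT h h'
      (show (u ≫ g') ≫ h' = h ≫ y by rw [Category.assoc, hgh', h₁])
    change C ⟶ B'' at α
    change B'' ⟶ K (n + 1) at β
    change ψ₀ ≫ (𝟙 B)⟦(1 : ℤ)⟧' = α ≫ c at hα
    change c ≫ h⟦(1 : ℤ)⟧' = β ≫ z at hβ
    rw [CategoryTheory.Functor.map_id, Category.comp_id] at hα
    obtain ⟨δ, hδ⟩ := Triangle.coyoneda_exact₃ _ hT (φ - α ≫ β) (by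
      change (φ - α ≫ β) ≫ z = 0
      rw [Preadditive.sub_comp, Category.assoc, ← hβ, ← Category.assoc, ← hα, hψ₀, sub_self])
    change φ - α ≫ β = δ ≫ f n at hδ
    have hB''c : CohDer.IsCompactObject B'' :=
      DerivedCoh.Compact.of_triangle₂ _ (rot_of_distTriang _ hT'') hB'c (DerivedCoh.Compact.shift hBc 1)
    classical
    have hB'' : env E (s ∪ s') B'' :=
      (env E (s ∪ s')).ext_of_isTriangulatedClosed₃ _ hT'' (env_mono E Finset.subset_union_left _ hB)
        (env_mono E Finset.subset_union_right _ hB')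
    rw [eq_add_of_sub_eq hδ]
    exact ((ih C hC δ).comp (f n)).add ⟨_, B'', α, β, hB'', hB''c, rfl⟩

end Groth.Misc1.CompactEnvelope
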