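import Groth.Prelude.Def_CohB1
import Mathlib.AlgebraicGeometry.ProjectiveSpectrum.Basic
import Mathlib.RingTheory.MvPolynomial.Homogeneous

/-!
# The standard charts of projective space over a ring
-/

set_option autoImplicit false
set_option linter.style.haveILetI false

universe u

open AlgebraicGeometry TopologicalSpace

namespace Groth.Misc1.ProjChart

variable {n : ℕ} {R : Type u} [CommRing R] (i : Fin (n + 1))

lemma X_mem (j : Fin (n + 1)) : (MvPolynomial.X j : MvPolynomial (Fin (n + 1)) R) ∈ CohB1.polyGrading n R 1 :=
  (MvPolynomial.mem_homogeneousSubmodule 1 _).mpr (MvPolynomial.isHomogeneous_X R j)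

lemma eval₂_mul_const {S : Type u} [CommRing S] (f : R →+* S) (a : S) (c : Fin (n + 1) → S) {d : ℕ}
    {p : MvPolynomial (Fin (n + 1)) R} (hp : p.IsHomogeneous d) :
    MvPolynomial.eval₂ f (fun j => a * c j) p = a ^ d * MvPolynomial.eval₂ f c p := by
  simp only [MvPolynomial.eval₂_eq', Finset.mul_sum]
  refine Finset.sum_congr rfl fun x hx => ?_
  have hdeg : ∑ i, x i = d := by
    rw [← Finsupp.degree_eq_sum, Finsupp.degree_eq_weight_one]
    exact hp (MvPolynomial.mem_support_iff.mp hx)
  simp only [mul_pow, Finset.prod_mul_distrib, Finset.prod_pow_eq_pow_sum, hdeg]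
  ring

local notation "P" => MvPolynomial (Fin (n + 1)) R
local notation "Q" => MvPolynomial {j : Fin (n + 1) // j ≠ i} R
local notation "Aw" => HomogeneousLocalization.Away (CohB1.polyGrading n R) (MvPolynomial.X i)
local notation "Lw" => Localization.Away (MvPolynomial.X i : MvPolynomial (Fin (n + 1)) R)

/-- setting `T_i = 1` -/
noncomputable def set1 : P →+* Q :=
  MvPolynomial.eval₂Hom MvPolynomial.C fun l => if h : l = i then 1 else MvPolynomial.X ⟨l, h⟩

lemma set1_X_self : set1 i (MvPolynomial.X i : P) = 1 := by simp [set1]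

/-- dehomogenisation -/
noncomputable def dehom : Aw →+* Q :=
  (IsLocalization.Away.lift (S := Lw) (MvPolynomial.X i : P) (g := set1 i)
    (by rw [set1_X_self]; exact isUnit_one)).comp (algebraMap Aw Lw)

lemma lift_mk (p : P) (k : ℕ) :
    IsLocalization.Away.lift (S := Lw) (MvPolynomial.X i : P) (g := set1 i)
      (by rw [set1_X_self]; exact isUnit_one)
      (Localization.mk p ⟨MvPolynomial.X i ^ k, k, rfl⟩) = set1 i p := by
  rw [Localization.mk_eq_mk']
  exact (IsLocalization.lift_mk'_spec _ _ _ _).2 (by simp [set1_X_self])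

lemma val_fromZero (r : R) :
    ((HomogeneousLocalization.fromZeroRingHom (CohB1.polyGrading n R) (Submonoid.powers (MvPolynomial.X i)))
      (algebraMap R (CohB1.polyGrading n R 0) r)).val =
      algebraMap P Lw (MvPolynomial.C r) := by
  rw [← Localization.mk_one_eq_algebraMap]
  rfl

theorem chart_bijective : Function.Bijective
    (MvPolynomial.eval₂Hom
      ((HomogeneousLocalization.fromZeroRingHom (CohB1.polyGrading n R) (Submonoid.powers (MvPolynomial.X i))).comp
        (algebraMap R (CohB1.polyGrading n R 0)))
      (fun j : {j : Fin (n + 1) // j ≠ i} =>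
        (HomogeneousLocalization.mk ⟨1, ⟨MvPolynomial.X j.1, MvPolynomial.isHomogeneous_X R j.1⟩,
          ⟨MvPolynomial.X i, MvPolynomial.isHomogeneous_X R i⟩, ⟨1, pow_one _⟩⟩ : Aw))) := by
  set φ := MvPolynomial.eval₂Hom
      ((HomogeneousLocalization.fromZeroRingHom (CohB1.polyGrading n R) (Submonoid.powers (MvPolynomial.X i))).comp
        (algebraMap R (CohB1.polyGrading n R 0)))
      (fun j : {j : Fin (n + 1) // j ≠ i} =>
        (HomogeneousLocalization.mk ⟨1, ⟨MvPolynomial.X j.1, MvPolynomial.isHomogeneous_X R j.1⟩,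
          ⟨MvPolynomial.X i, MvPolynomial.isHomogeneous_X R i⟩, ⟨1, pow_one _⟩⟩ : Aw)) with hφ
  have hl : (dehom i).comp φ = RingHom.id Q := by
    refine MvPolynomial.ringHom_ext (fun r => ?_) fun j => ?_
    · rw [hφ, RingHom.comp_apply, MvPolynomial.eval₂Hom_C, RingHom.comp_apply, dehom, RingHom.comp_apply,
        HomogeneousLocalization.algebraMap_apply, val_fromZero, IsLocalization.Away.lift_eq]
      simp [set1]
    · rw [hφ, RingHom.comp_apply, MvPolynomial.eval₂Hom_X', dehom, RingHom.comp_apply,
        HomogeneousLocalization.algebraMap_apply, HomogeneousLocalization.val_mk]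
      have := lift_mk i (MvPolynomial.X j.1 : P) 1
      simp only [pow_one] at this
      refine this.trans ?_
      simp [set1, j.2]
  have hval : ∀ x : Aw, (φ (dehom i x)).val = x.val := by
    intro x
    obtain ⟨k, p, hp, rfl⟩ := HomogeneousLocalization.Away.mk_surjective (CohB1.polyGrading n R) (X_mem i) x
    have hd : dehom i (HomogeneousLocalization.Away.mk (CohB1.polyGrading n R) (X_mem i) k p hp) = set1 i p := by
      rw [dehom, RingHom.comp_apply, HomogeneousLocalization.algebraMap_apply,
        HomogeneousLocalization.Away.val_mk]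
      exact lift_mk i p k
    rw [hd, HomogeneousLocalization.Away.val_mk]
    let al : P →+* Lw := algebraMap _ _
    let w : Lw := Localization.mk 1 ⟨MvPolynomial.X i, 1, pow_one _⟩
    have key : ((algebraMap Aw Lw).comp φ).comp (set1 i) =
        MvPolynomial.eval₂Hom (al.comp MvPolynomial.C) fun l => w * al (MvPolynomial.X l) := by
      refine MvPolynomial.ringHom_ext (fun r => ?_) fun l => ?_
      · simp only [hφ, set1, RingHom.comp_apply, MvPolynomial.eval₂Hom_C,
          HomogeneousLocalization.algebraMap_apply]
        exact val_fromZero i r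
      · simp only [hφ, set1, RingHom.comp_apply, MvPolynomial.eval₂Hom_X', w, al,
          ← Localization.mk_one_eq_algebraMap, Localization.mk_mul, one_mul, mul_one,
          HomogeneousLocalization.algebraMap_apply]
        by_cases h : l = i
        · subst h
          rw [dif_pos rfl, map_one, HomogeneousLocalization.val_one]
          exact (Localization.mk_self (⟨MvPolynomial.X l, 1, pow_one _⟩ :
            Submonoid.powers (MvPolynomial.X l : P))).symm
        · rw [dif_neg h, MvPolynomial.eval₂Hom_X', HomogeneousLocalization.val_mk]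
    have h1 := RingHom.congr_fun key p
    simp only [RingHom.comp_apply, HomogeneousLocalization.algebraMap_apply] at h1
    rw [h1, MvPolynomial.coe_eval₂Hom, eval₂_mul_const _ w _ (d := k)
      (by simpa using (MvPolynomial.mem_homogeneousSubmodule _ _).mp hp)]
    have hid : MvPolynomial.eval₂Hom (al.comp MvPolynomial.C) (fun l => al (MvPolynomial.X l)) = al :=
      MvPolynomial.ringHom_ext (fun r => by simp) fun l => by simp
    rw [← MvPolynomial.coe_eval₂Hom, hid]
    simp only [w, al, Localization.mk_pow, ← Localization.mk_one_eq_algebraMap, Localization.mk_mul,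
      one_pow, one_mul, mul_one]
    exact congrArg (Localization.mk p) (Subtype.ext (by simp))
  refine ⟨fun a b h => ?_, fun x => ⟨dehom i x, HomogeneousLocalization.val_injective _ (hval x)⟩⟩
  rw [← RingHom.id_apply a, ← RingHom.id_apply b, ← hl, RingHom.comp_apply, RingHom.comp_apply, h]

theorem iSup_basicOpen_X :
    (⨆ j : Fin (n + 1), Proj.basicOpen (CohB1.polyGrading n R) (MvPolynomial.X j)) = ⊤ := by
  refine Proj.iSup_basicOpen_eq_top' _ (fun j => (MvPolynomial.X j : P)) (fun j => ⟨1, X_mem j⟩) ?_
  rw [eq_top_iff]
  rintro p -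
  induction p using MvPolynomial.induction_on with
  | C r => exact Subalgebra.algebraMap_mem _ (algebraMap R (CohB1.polyGrading n R 0) r)
  | add p q hp hq => exact add_mem hp hq
  | mul_X p j hp => exact mul_mem hp (Algebra.subset_adjoin ⟨j, rfl⟩)

end Groth.Misc1.ProjChart
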