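import Groth.Prelude.Def_DerLim
import Groth.Agent.DerivedCoh.Compact

/-!
# Cellular towers for compact generators
-/

set_option autoImplicit false
set_option linter.style.haveILetI false

universe v u

open CategoryTheory CategoryTheory.Limits CategoryTheory.Pretriangulated

namespace Groth.Misc1.CellularTower

variable {D : Type u} [Category.{v} D] [Preadditive D] [HasCoproducts.{v} D]
  [HasColimitsOfShape (Discrete ℕ) D]

/-- finite sums: the induction principle for maps from a compact object into a countable direct sum -/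
lemma induction_nat {C : D} (hC : CohDer.IsCompactObject C) (K : ℕ → D) {P : (C ⟶ ∐ K) → Prop}
    (h0 : P 0) (hof : ∀ (n : ℕ) (b : C ⟶ K n), P (b ≫ Sigma.ι K n))
    (hadd : ∀ a b, P a → P b → P (a + b)) (a : C ⟶ ∐ K) : P a := by
  classical
  let e : (∐ fun j : ULift.{v} ℕ => K j.down) ⟶ ∐ K := Sigma.desc fun j => Sigma.ι K j.down
  let e' : (∐ K) ⟶ ∐ fun j : ULift.{v} ℕ => K j.down :=
    Sigma.desc fun n => Sigma.ι (fun j : ULift.{v} ℕ => K j.down) ⟨n⟩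
  have he : e' ≫ e = 𝟙 _ := Sigma.hom_ext _ _ fun n => by simp [e, e']
  obtain ⟨x, hx⟩ := (hC _ (fun j : ULift.{v} ℕ => K j.down)).2 (a ≫ e')
  have key : ∀ x, P (CohDer.homSumToHomCoprod C (fun j : ULift.{v} ℕ => K j.down) x ≫ e) := by
    intro x
    induction x using DirectSum.induction_on with
    | zero => rw [map_zero, zero_comp]; exact h0
    | of j b =>
      rw [DerivedCoh.Compact.homSum_of]
      simpa [e] using hof j.down b
    | add x y hx hy => rw [map_add, Preadditive.add_comp]; exact hadd _ _ hx hy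
  have := key x
  rwa [hx, Category.assoc, he, Category.comp_id] at this

variable (K : ℕ → D) (f : ∀ n, K n ⟶ K (n + 1))

/-- the projection onto the summands of index `< N` -/
noncomputable def pr (N : ℕ) : (∐ K) ⟶ ∐ K := Sigma.desc fun n => if n < N then Sigma.ι K n else 0

lemma shift_pr (N : ℕ) : DerLim.shiftMap K f ≫ pr K (N + 1) = pr K N ≫ DerLim.shiftMap K f := by
  refine Sigma.hom_ext _ _ fun n => ?_
  rw [DerLim.shiftMap, Sigma.ι_desc_assoc, Category.assoc, pr, pr, Sigma.ι_desc, Sigma.ι_desc_assoc]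
  by_cases h : n < N
  · rw [if_pos h, if_pos (Nat.succ_lt_succ h), Sigma.ι_desc]
  · rw [if_neg h, if_neg (fun h' => h (Nat.lt_of_succ_lt_succ h')), comp_zero, zero_comp]

lemma exists_pr {C : D} (hC : CohDer.IsCompactObject C) (a : C ⟶ ∐ K) :
    ∃ N, ∀ M, N ≤ M → a ≫ pr K M = a := by
  refine induction_nat hC K (P := fun a => ∃ N, ∀ M, N ≤ M → a ≫ pr K M = a) ⟨0, fun M _ => zero_comp⟩ (fun n b => ⟨n + 1, fun M hM => ?_⟩) ?_ a
  · rw [Category.assoc, pr, Sigma.ι_desc, if_pos (by omega)]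
  · rintro a b ⟨N, hN⟩ ⟨N', hN'⟩
    exact ⟨max N N', fun M hM => by
      rw [Preadditive.add_comp, hN M (le_of_max_le_left hM), hN' M (le_of_max_le_right hM)]⟩

lemma eq_zero_of_comp {C : D} (hC : CohDer.IsCompactObject C) (a : C ⟶ ∐ K)
    (h : a ≫ (𝟙 (∐ K) - DerLim.shiftMap K f) = 0) : a = 0 := by
  have ha : a ≫ DerLim.shiftMap K f = a := by
    rw [Preadditive.comp_sub, Category.comp_id, sub_eq_zero] at h
    exact h.symm
  have hN : ∀ N, a ≫ pr K N = 0 := by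
    intro N
    induction N with
    | zero =>
      have : pr K 0 = 0 := Sigma.hom_ext _ _ fun n => by simp [pr]
      rw [this, comp_zero]
    | succ N ih =>
      rw [← ha, Category.assoc, shift_pr, ← Category.assoc, ih, zero_comp]
  obtain ⟨N, hN'⟩ := exists_pr K hC a
  rw [← hN' N le_rfl, hN]

variable [HasZeroObject D] [HasShift D ℤ] [∀ n : ℤ, (shiftFunctor D n).Additive] [Pretriangulated D]

lemma exists_factor {C : D} (hC : CohDer.IsCompactObject C) {L : D} (i : ∀ n, K n ⟶ L)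
    (c : L ⟶ (∐ K)⟦(1 : ℤ)⟧)
    (hT : Triangle.mk (𝟙 (∐ K) - DerLim.shiftMap K f) (Sigma.desc i) c ∈ distinguishedTriangles)
    (hi : ∀ n, f n ≫ i (n + 1) = i n) (x : C ⟶ L) : ∃ (N : ℕ) (b : C ⟶ K N), x = b ≫ i N := by
  have hc : x ≫ c = 0 := by
    let e : (C⟦(-1 : ℤ)⟧)⟦(1 : ℤ)⟧ ≅ C := (shiftFunctorCompIsoId D (-1) 1 (by omega)).app C
    obtain ⟨a, ha⟩ := (shiftFunctor D (1 : ℤ)).map_surjective (e.hom ≫ x ≫ c)
    have h0 : a ≫ (𝟙 (∐ K) - DerLim.shiftMap K f) = 0 := by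
      apply (shiftFunctor D (1 : ℤ)).map_injective
      have h3 : c ≫ (𝟙 (∐ K) - DerLim.shiftMap K f)⟦(1 : ℤ)⟧' = 0 := comp_distTriang_mor_zero₃₁ _ hT
      rw [Functor.map_comp, Functor.map_zero, ha, Category.assoc, Category.assoc, h3, comp_zero, comp_zero]
    rw [← cancel_epi e.hom, comp_zero, ← ha,
      eq_zero_of_comp K f (DerivedCoh.Compact.shift hC (-1)) a h0, Functor.map_zero]
  obtain ⟨a, rfl⟩ := Triangle.coyoneda_exact₃ _ hT x hc
  have mono : ∀ N M, N ≤ M → ∀ b : C ⟶ K N, ∃ b' : C ⟶ K M, b ≫ i N = b' ≫ i M := by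
    intro N M h
    induction h with
    | refl => exact fun b => ⟨b, rfl⟩
    | step h ih =>
      intro b
      obtain ⟨b', hb'⟩ := ih b
      exact ⟨b' ≫ f _, by rw [hb', Category.assoc, hi]⟩
  change ∃ (N : ℕ) (b : C ⟶ K N), a ≫ Sigma.desc i = b ≫ i N
  refine induction_nat hC K (P := fun a => ∃ (N : ℕ) (b : C ⟶ K N), a ≫ Sigma.desc i = b ≫ i N) ⟨0, 0, by rw [zero_comp, zero_comp]⟩ (fun n b => ⟨n, b, by simp⟩) ?_ a
  rintro a a' ⟨N, b, hb⟩ ⟨N', b', hb'⟩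
  obtain ⟨b₁, hb₁⟩ := mono N (max N N') (le_max_left _ _) b
  obtain ⟨b₂, hb₂⟩ := mono N' (max N N') (le_max_right _ _) b'
  exact ⟨_, b₁ + b₂, by rw [Preadditive.add_comp, hb, hb', hb₁, hb₂, Preadditive.add_comp]⟩

omit [HasColimitsOfShape (Discrete ℕ) D] in
/-- one step of the tower -/
lemma exists_step {ι : Type v} (E : ι → D) {X K : D} (p : K ⟶ X) :
    ∃ (K' : D) (f : K ⟶ K') (p' : K' ⟶ X), f ≫ p' = p ∧
      (∀ (i : ι) (m : ℤ) (b : (E i)⟦m⟧ ⟶ K), b ≫ p = 0 → b ≫ f = 0) ∧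
      ∃ (κ : Type v) (a : κ → ι) (m : κ → ℤ) (y : (∐ fun k => (shiftFunctor D (m k)).obj (E (a k))) ⟶ K)
        (z : K' ⟶ (shiftFunctor D (1 : ℤ)).obj (∐ fun k => (shiftFunctor D (m k)).obj (E (a k)))),
        Triangle.mk y f z ∈ distinguishedTriangles := by
  let κ : Type v := Σ (i : ι) (m : ULift.{v} ℤ), {b : (E i)⟦m.down⟧ ⟶ K // b ≫ p = 0}
  let a : κ → ι := fun k => k.1
  let m : κ → ℤ := fun k => k.2.1.down
  let y : (∐ fun k => (shiftFunctor D (m k)).obj (E (a k))) ⟶ K := Sigma.desc fun k => k.2.2.1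
  obtain ⟨K', f, z, hT⟩ := distinguished_cocone_triangle y
  have hy : y ≫ p = 0 := Sigma.hom_ext _ _ fun k => by
    rw [Sigma.ι_desc_assoc, k.2.2.2, comp_zero]
  obtain ⟨p', hp'⟩ := Triangle.yoneda_exact₂ _ hT p hy
  refine ⟨K', f, p', hp'.symm, fun i n b hb => ?_, κ, a, m, y, z, hT⟩
  have h : y ≫ f = 0 := comp_distTriang_mor_zero₁₂ _ hT
  have := congrArg (Sigma.ι (fun k => (shiftFunctor D (m k)).obj (E (a k))) ⟨i, ⟨n⟩, b, hb⟩ ≫ ·) h
  simpa [y] using this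

theorem exists_tower {ι : Type v} (E : ι → D) (hc : ∀ i, CohDer.IsCompactObject (E i))
    (hg : CohDer.Generates E) (X : D) :
    ∃ (K : ℕ → D) (f : ∀ n, K n ⟶ K (n + 1)) (i : ∀ n, K n ⟶ X),
      DerLim.IsHocolim K f X i ∧
      (∃ (κ : Type v) (a : κ → ι) (m : κ → ℤ), Nonempty (K 0 ≅ ∐ (fun k => (shiftFunctor D (m k)).obj (E (a k))))) ∧
      ∀ n, ∃ (κ : Type v) (a : κ → ι) (m : κ → ℤ) (y : (∐ fun k => (shiftFunctor D (m k)).obj (E (a k))) ⟶ K n)
        (z : K (n + 1) ⟶ (shiftFunctor D (1 : ℤ)).obj (∐ fun k => (shiftFunctor D (m k)).obj (E (a k)))),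
        Triangle.mk y (f n) z ∈ distinguishedTriangles := by
  classical
  choose next fn pn hpn hkill hcell using fun (s : Σ K : D, K ⟶ X) => exists_step E s.2
  let κ₀ : Type v := Σ (i : ι) (m : ULift.{v} ℤ), (E i)⟦m.down⟧ ⟶ X
  let K₀ : D := ∐ fun k : κ₀ => (shiftFunctor D k.2.1.down).obj (E k.1)
  let p₀ : K₀ ⟶ X := Sigma.desc fun k : κ₀ => k.2.2
  let st : ℕ → Σ K : D, K ⟶ X := fun n => Nat.rec ⟨K₀, p₀⟩ (fun _ s => ⟨next s, pn s⟩) n
  let K : ℕ → D := fun n => (st n).1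
  let p : ∀ n, K n ⟶ X := fun n => (st n).2
  let f : ∀ n, K n ⟶ K (n + 1) := fun n => fn (st n)
  have hfp : ∀ n, f n ≫ p (n + 1) = p n := fun n => hpn (st n)
  -- the homotopy colimit
  obtain ⟨L, g, c, hT⟩ := distinguished_cocone_triangle (𝟙 (∐ K) - DerLim.shiftMap K f)
  obtain ⟨j, rfl⟩ : ∃ j : ∀ n, K n ⟶ L, Sigma.desc j = g :=
    ⟨fun n => Sigma.ι K n ≫ g, Sigma.hom_ext _ _ fun n => by simp⟩
  have huj : (𝟙 (∐ K) - DerLim.shiftMap K f) ≫ Sigma.desc j = 0 := comp_distTriang_mor_zero₁₂ _ hT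
  have hj : ∀ n, f n ≫ j (n + 1) = j n := fun n => by
    have h := congrArg (Sigma.ι K n ≫ ·) huj
    simp only [Preadditive.sub_comp, Category.id_comp, Preadditive.comp_sub, DerLim.shiftMap,
      Sigma.ι_desc_assoc, Category.assoc, Sigma.ι_desc, comp_zero, sub_eq_zero] at h
    exact h.symm
  have hup : (𝟙 (∐ K) - DerLim.shiftMap K f) ≫ Sigma.desc p = 0 := Sigma.hom_ext _ _ fun n => by
    simp only [Preadditive.sub_comp, Category.id_comp, Preadditive.comp_sub, DerLim.shiftMap,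
      Sigma.ι_desc_assoc, Category.assoc, Sigma.ι_desc, comp_zero]
    exact sub_eq_zero.2 (hfp n).symm
  obtain ⟨π, hπ⟩ := Triangle.yoneda_exact₂ _ hT (Sigma.desc p) hup
  change L ⟶ X at π
  change Sigma.desc p = Sigma.desc j ≫ π at hπ
  have hjπ : ∀ n, j n ≫ π = p n := fun n => by
    have := congrArg (Sigma.ι K n ≫ ·) hπ
    simpa using this.symm
  -- surjectivity and injectivity on the generators
  have surj : ∀ (i : ι) (m : ℤ) (x : (E i)⟦m⟧ ⟶ X), ∃ x' : (E i)⟦m⟧ ⟶ L, x' ≫ π = x := fun i m x =>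
    ⟨Sigma.ι (fun k : κ₀ => (shiftFunctor D k.2.1.down).obj (E k.1)) ⟨i, ⟨m⟩, x⟩ ≫ j 0, by
      rw [Category.assoc, hjπ]
      exact Sigma.ι_desc _ _⟩
  have inj : ∀ (i : ι) (m : ℤ) (x : (E i)⟦m⟧ ⟶ L), x ≫ π = 0 → x = 0 := by
    intro i m x hx
    obtain ⟨N, b, rfl⟩ := exists_factor K f (DerivedCoh.Compact.shift (hc i) m) j c hT hj x
    rw [Category.assoc, hjπ] at hx
    rw [← hj N, ← Category.assoc, show b ≫ f N = 0 from hkill (st N) i m b hx, zero_comp]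
  obtain ⟨Z, q, d, hC⟩ := distinguished_cocone_triangle π
  have hzero : ∀ (i : ι) (m : ℤ) (x : (E i)⟦m⟧ ⟶ Z), x = 0 := by
    intro i m x
    have hπq : π ≫ q = 0 := comp_distTriang_mor_zero₁₂ _ hC
    have hdπ : d ≫ π⟦(1 : ℤ)⟧' = 0 := comp_distTriang_mor_zero₃₁ _ hC
    let e : ((E i)⟦m - 1⟧)⟦(1 : ℤ)⟧ ≅ (E i)⟦m⟧ :=
      ((shiftFunctorAdd' D (m - 1) 1 m (by omega)).app (E i)).symm
    obtain ⟨w, hw⟩ := (shiftFunctor D (1 : ℤ)).map_surjective (e.hom ≫ x ≫ d)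
    have hw0 : w = 0 := inj i (m - 1) w ((shiftFunctor D (1 : ℤ)).map_injective (by
      rw [Functor.map_comp, Functor.map_zero, hw, Category.assoc, Category.assoc, hdπ, comp_zero,
        comp_zero]))
    have hxd : x ≫ d = 0 := by
      rw [← cancel_epi e.hom, comp_zero, ← hw, hw0, Functor.map_zero]
    obtain ⟨t, rfl⟩ := Triangle.coyoneda_exact₃ _ hC x hxd
    change (t : _ ⟶ X) ≫ q = 0
    obtain ⟨x', hx'⟩ := surj i m t
    rw [← hx']
    exact (Category.assoc x' π q).trans ((congrArg (x' ≫ ·) hπq).trans comp_zero)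
  have hZ : IsZero Z := hg Z fun i n x => by
    let e := (shiftFunctorCompIsoId D n (-n) (by omega)).app Z
    have h1 := hzero i (-n) (x⟦(-n)⟧' ≫ e.hom)
    have h2 : x⟦(-n)⟧' = 0 := by rw [← cancel_mono e.hom, zero_comp]; exact h1
    exact (shiftFunctor D (-n)).map_injective (by rw [h2, Functor.map_zero])
  haveI : IsIso π := (Triangle.isZero₃_iff_isIso₁ _ hC).1 hZ
  refine ⟨K, f, p, ⟨inv π ≫ c, isomorphic_distinguished _ hT _
    (Triangle.isoMk _ _ (Iso.refl _) (Iso.refl _) (asIso π).symm ?_ ?_ ?_)⟩, ⟨κ₀, fun k => k.1,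
      fun k => k.2.1.down, ⟨Iso.refl _⟩⟩, fun n => hcell (st n)⟩
  · exact (Category.comp_id _).trans (Category.id_comp _).symm
  · change Sigma.desc p ≫ inv π = 𝟙 _ ≫ Sigma.desc j
    rw [hπ, Category.assoc, IsIso.hom_inv_id, Category.comp_id, Category.id_comp]
  · change (inv π ≫ c) ≫ (𝟙 (∐ K))⟦(1 : ℤ)⟧' = inv π ≫ c
    rw [CategoryTheory.Functor.map_id, Category.comp_id]

end Groth.Misc1.CellularTower
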