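import Mathlib.RingTheory.Ideal.AssociatedPrime.Basic
import Mathlib.RingTheory.Ideal.AssociatedPrime.Finiteness
import Mathlib.RingTheory.Flat.Localization
import Mathlib.RingTheory.Localization.LocalizationLocalization
import Mathlib.RingTheory.Ideal.HasGoingUp
import Mathlib.RingTheory.Flat.Stability
import Mathlib.RingTheory.Flat.EquationalCriterion
import Mathlib.RingTheory.TensorProduct.IsBaseChangeHom
import Mathlib.RingTheory.Localization.BaseChange

/-!
# Flatness at associated primes and over the total ring of fractions
-/

set_option autoImplicit false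

universe u

open TensorProduct

namespace Groth.Misc1.FlatAss

variable {A B : Type u} [CommRing A] [CommRing B] [Algebra A B]

lemma regular_on_flat (M : Type u) [AddCommGroup M] [Module A M] [Module.Flat A M]
    (a : A) (ha : a ∈ nonZeroDivisors A) (m : M) (h : a • m = 0) : m = 0 := by
  have hinj : Function.Injective (LinearMap.lsmul A A a) := fun x y hxy => by
    simp only [LinearMap.lsmul_apply, smul_eq_mul] at hxy
    exact (mul_cancel_left_mem_nonZeroDivisors ha).mp hxy
  have := Module.Flat.lTensor_preserves_injective_linearMap (M := M) _ hinj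
  have key : (TensorProduct.rid A M).toLinearMap ∘ₗ (LinearMap.lsmul A A a).lTensor M =
      a • (TensorProduct.rid A M).toLinearMap := by
    ext; simp
  apply (TensorProduct.rid A M).symm.injective
  apply this
  apply (TensorProduct.rid A M).injective
  have h2 := LinearMap.congr_fun key ((TensorProduct.rid A M).symm m)
  simp only [LinearMap.comp_apply, LinearEquiv.coe_coe, LinearMap.smul_apply,
    LinearEquiv.apply_symm_apply] at h2
  rw [h2, h, map_zero, map_zero, map_zero]

theorem nonZeroDivisors_le [IsNoetherianRing B]
    (h3 : ∀ (q : Ideal B) [q.IsPrime], IsAssociatedPrime q B →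
      Module.Flat A (Localization.AtPrime q)) :
    nonZeroDivisors A ≤ (nonZeroDivisors B).comap (algebraMap A B) := by
  intro a ha
  rw [Submonoid.mem_comap, mem_nonZeroDivisors_iff_right]
  intro b hb
  by_contra hb0
  obtain ⟨q, hq, hle⟩ := exists_le_isAssociatedPrime_of_isNoetherianRing B b hb0
  haveI := hq.isPrime
  haveI := h3 q hq
  have h1 : a • algebraMap B (Localization.AtPrime q) b = 0 := by
    rw [Algebra.smul_def, IsScalarTower.algebraMap_apply A B (Localization.AtPrime q), ← map_mul,
      mul_comm, hb, map_zero]
  have h2 := regular_on_flat _ a ha _ h1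
  obtain ⟨⟨c, hc⟩, hc0⟩ := (IsLocalization.map_eq_zero_iff q.primeCompl _ b).mp h2
  refine hc (hle ?_)
  rw [Submodule.mem_colon_singleton, Submodule.mem_bot, smul_eq_mul]
  exact hc0

variable (A B)

/-- `B` localized at the nonzerodivisors of `A`. -/
abbrev LocB : Type u := Localization (Algebra.algebraMapSubmonoid B (nonZeroDivisors A))


/-- `Q(A) ⊗ B` is the localization of `B` at the nonzerodivisors of `A`. -/
noncomputable def tensorEquiv : FractionRing A ⊗[A] B ≃ₗ[FractionRing A] LocB A B :=
  haveI : IsLocalizedModule (nonZeroDivisors A)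
      (IsScalarTower.toAlgHom A B (LocB A B)).toLinearMap :=
    isLocalizedModule_iff_isLocalization.mpr inferInstance
  (IsLocalizedModule.isBaseChange (nonZeroDivisors A) (FractionRing A)
    (IsScalarTower.toAlgHom A B (LocB A B)).toLinearMap).equiv

variable {A B}

theorem flat_atPrime_of_disjoint (h2 : Module.Flat (FractionRing A) (FractionRing A ⊗[A] B))
    (q : Ideal B) [q.IsPrime]
    (hq : Algebra.algebraMapSubmonoid B (nonZeroDivisors A) ≤ q.primeCompl) :
    Module.Flat A (Localization.AtPrime q) := by
  haveI : Module.Flat (FractionRing A) (LocB A B) := Module.Flat.of_linearEquiv (tensorEquiv A B).symm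
  haveI : Module.Flat A (LocB A B) := Module.Flat.trans A (FractionRing A) (LocB A B)
  letI : Algebra (LocB A B) (Localization.AtPrime q) :=
    (IsLocalization.map (M := Algebra.algebraMapSubmonoid B (nonZeroDivisors A)) (T := q.primeCompl) (S := LocB A B) (Localization.AtPrime q) (RingHom.id B) hq).toAlgebra
  haveI : IsScalarTower B (LocB A B) (Localization.AtPrime q) :=
    IsScalarTower.of_algebraMap_eq' (IsLocalization.map_comp _).symm
  haveI : IsLocalization (q.primeCompl.map (algebraMap B (LocB A B))) (Localization.AtPrime q) :=
    IsLocalization.isLocalization_of_submonoid_le (LocB A B) (Localization.AtPrime q) _ _ hq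
  haveI : IsScalarTower A (LocB A B) (Localization.AtPrime q) :=
    IsScalarTower.of_algebraMap_eq fun a => by
      rw [IsScalarTower.algebraMap_apply A B (LocB A B),
        ← IsScalarTower.algebraMap_apply B (LocB A B), ← IsScalarTower.algebraMap_apply]
  haveI := IsLocalization.flat (Localization.AtPrime q) (q.primeCompl.map (algebraMap B (LocB A B)))
  exact Module.Flat.trans A (LocB A B) _

theorem disjoint_of_isAssociatedPrime_comap [IsNoetherianRing A] (q : Ideal B) [q.IsPrime]
    (hq : IsAssociatedPrime (q.comap (algebraMap A B)) A) :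
    Algebra.algebraMapSubmonoid B (nonZeroDivisors A) ≤ q.primeCompl := by
  rintro _ ⟨a, ha, rfl⟩ hmem
  have := biUnion_associatedPrimes_eq_compl_nonZeroDivisors A
  have h1 : a ∈ ((nonZeroDivisors A : Set A))ᶜ := by
    rw [← this]; exact Set.mem_biUnion hq hmem
  exact h1 ha

theorem disjoint_of_isAssociatedPrime [IsNoetherianRing B] (q : Ideal B) [q.IsPrime]
    (h1 : nonZeroDivisors A ≤ (nonZeroDivisors B).comap (algebraMap A B))
    (hq : IsAssociatedPrime q B) :
    Algebra.algebraMapSubmonoid B (nonZeroDivisors A) ≤ q.primeCompl := by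
  rintro _ ⟨a, ha, rfl⟩ hmem
  have := biUnion_associatedPrimes_eq_compl_nonZeroDivisors B
  have h2 : algebraMap A B a ∈ ((nonZeroDivisors B : Set B))ᶜ := by
    rw [← this]; exact Set.mem_biUnion hq hmem
  exact h2 (h1 ha)

theorem flat_total [IsNoetherianRing A] [Algebra.HasGoingUp A B]
    (h4 : ∀ (q : Ideal B) [q.IsPrime], IsAssociatedPrime (q.comap (algebraMap A B)) A →
      Module.Flat A (Localization.AtPrime q)) :
    Module.Flat (FractionRing A) (FractionRing A ⊗[A] B) := by
  haveI : Module.Flat (FractionRing A) (LocB A B) := by
    refine Module.flat_of_isLocalized_maximal (LocB A B) (LocB A B)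
      (fun m hm => Localization.AtPrime m) (fun m hm => Algebra.linearMap _ _) fun m hm => ?_
    set q := m.comap (algebraMap B (LocB A B)) with hqdef
    haveI : q.IsPrime := Ideal.IsPrime.comap _
    have hdisj := (IsLocalization.isPrime_iff_isPrime_disjoint
      (Algebra.algebraMapSubmonoid B (nonZeroDivisors A)) (LocB A B) m).mp inferInstance
    have hass : IsAssociatedPrime (q.comap (algebraMap A B)) A := by
      have hsub : ((q.comap (algebraMap A B) : Ideal A) : Set A) ⊆ ⋃ p ∈ associatedPrimes A A, (p : Set A) := by
        rw [biUnion_associatedPrimes_eq_compl_nonZeroDivisors]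
        intro a ha han
        exact Set.disjoint_left.mp hdisj.2 ⟨a, han, rfl⟩ ha
      have hfin := associatedPrimes.finite A A
      obtain ⟨p, hp, hle⟩ := (Ideal.subset_union_prime_finite (f := id) hfin ⊤ ⊤
        (fun i hi _ _ => hi.isPrime)).mp hsub
      rcases eq_or_lt_of_le hle with heq | hlt
      · simp only [id] at heq; rw [heq]; exact hp
      haveI : p.IsPrime := hp.isPrime
      simp only [id] at hlt
      obtain ⟨q', hq', hq'p, hlies⟩ := Algebra.HasGoingUp.exists_ideal_ge_liesOver_of_lt (q := p) q hlt
      have hd : Disjoint ((Algebra.algebraMapSubmonoid B (nonZeroDivisors A) : Set B)) (q' : Set B) := by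
        rw [Set.disjoint_left]
        rintro _ ⟨a, ha, rfl⟩ hmem
        refine (disjoint_of_isAssociatedPrime_comap (B := B) q' ?_) ⟨a, ha, rfl⟩ hmem
        rw [← Ideal.under_def, ← hlies.over]; exact hp
      have hle' : m ≤ q'.map (algebraMap B (LocB A B)) := by
        rw [← IsLocalization.map_comap (Algebra.algebraMapSubmonoid B (nonZeroDivisors A)) (LocB A B) m]
        exact Ideal.map_mono hq'
      have hpr := IsLocalization.isPrime_of_isPrime_disjoint
        (Algebra.algebraMapSubmonoid B (nonZeroDivisors A)) (LocB A B) q' hq'p hd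
      have heq : m = q'.map (algebraMap B (LocB A B)) := hm.eq_of_le hpr.ne_top hle'
      have hq'eq : q = q' := by
        rw [hqdef, heq]
        exact IsLocalization.comap_map_of_isPrime_disjoint
          (Algebra.algebraMapSubmonoid B (nonZeroDivisors A)) (LocB A B) hq'p hd
      rw [hq'eq, ← Ideal.under_def, ← hlies.over]; exact hp
    haveI := h4 q hass
    haveI : IsLocalization.AtPrime (Localization.AtPrime m) q :=
      IsLocalization.isLocalization_isLocalization_atPrime_isLocalization
        (Algebra.algebraMapSubmonoid B (nonZeroDivisors A)) (Localization.AtPrime m) m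
    let e : Localization.AtPrime q ≃ₐ[B] Localization.AtPrime m :=
      IsLocalization.algEquiv q.primeCompl _ _
    haveI : Module.Flat A (Localization.AtPrime m) :=
      Module.Flat.of_linearEquiv (e.restrictScalars A).toLinearEquiv.symm
    exact (Module.flat_iff_of_isLocalization (FractionRing A) (nonZeroDivisors A) (Localization.AtPrime m)).mpr this
  exact Module.Flat.of_linearEquiv (tensorEquiv A B)

end Groth.Misc1.FlatAss
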