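import Groth.Prelude.Def_Disc
import Mathlib.RingTheory.Kaehler.Basic
import Mathlib.RingTheory.RingHom.Flat
import Mathlib.RingTheory.Flat.Equalizer
import Mathlib.RingTheory.IsTensorProduct
import Mathlib.RingTheory.Flat.Stability
import Mathlib.AlgebraicGeometry.Morphisms.Flat

/-!
# Noether different and flat base change
-/

set_option autoImplicit false

universe u

open TensorProduct Disc AlgebraicGeometry CategoryTheory

namespace Groth.Misc1.NBC

lemma annihilator_map {R S : Type u} [CommRing R] [CommRing S] {φ : R →+* S} (hφ : φ.Flat)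
    {I : Ideal R} (hI : I.FG) :
    Submodule.annihilator (I.map φ) = (Submodule.annihilator I).map φ := by
  classical
  algebraize [φ]
  apply le_antisymm
  · obtain ⟨n, x, rfl⟩ := Submodule.fg_iff_exists_fin_generating_family.mp hI
    intro s hs
    let f : R →ₗ[R] (Fin n → R) := LinearMap.pi fun i => LinearMap.mulRight R (x i)
    have hex := Module.Flat.lTensor_exact S (LinearMap.exact_subtype_ker_map f)
    have h0 : f.lTensor S (s ⊗ₜ[R] (1 : R)) = 0 := by
      apply (TensorProduct.piScalarRight R R S (Fin n)).injective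
      ext i
      rw [LinearMap.lTensor_tmul, map_zero, Pi.zero_apply]
      simp only [TensorProduct.piScalarRight_apply, TensorProduct.piScalarRightHom_tmul, f,
        LinearMap.pi_apply, LinearMap.mulRight_apply, one_mul, Algebra.smul_def]
      rw [mul_comm]
      exact Submodule.mem_annihilator.mp hs _
        (Ideal.mem_map_of_mem φ (Submodule.subset_span ⟨i, rfl⟩))
    obtain ⟨w, hw⟩ := (hex _).mp h0
    have key : ∀ w : S ⊗[R] (LinearMap.ker f),
        TensorProduct.rid R S ((LinearMap.ker f).subtype.lTensor S w) ∈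
          (Submodule.annihilator (Submodule.span R (Set.range x))).map φ := by
      intro w
      induction w using TensorProduct.induction_on with
      | zero => simp
      | tmul t r =>
          simp only [LinearMap.lTensor_tmul, TensorProduct.rid_tmul, Submodule.subtype_apply,
            Algebra.smul_def]
          refine Ideal.mul_mem_right _ _ (Ideal.mem_map_of_mem φ ?_)
          rw [Submodule.mem_annihilator_span]
          rintro ⟨_, i, rfl⟩
          exact congrFun (LinearMap.mem_ker.mp r.2) i
      | add a b ha hb => simp only [map_add]; exact Ideal.add_mem _ ha hb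
    simpa [hw] using key w
  · rw [Ideal.map_le_iff_le_comap]
    intro r hr
    rw [Ideal.mem_comap, Submodule.mem_annihilator]
    intro y hy
    have hle : I.map φ ≤ Submodule.annihilator (Ideal.span {φ r}) := by
      rw [Ideal.map_le_iff_le_comap]
      intro z hz
      rw [Ideal.mem_comap, Ideal.span, Submodule.mem_annihilator_span_singleton, smul_eq_mul,
        ← map_mul, mul_comm, show r * z = 0 from Submodule.mem_annihilator.mp hr z hz, map_zero]
    have := (Submodule.mem_annihilator_span_singleton _ _).mp (hle hy)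
    rw [smul_eq_mul] at this ⊢
    rw [mul_comm]; exact this

lemma transfer {R R' S S' : Type u} [CommRing R] [CommRing R'] [CommRing S] [CommRing S']
    (μ : R →+* S) (μ' : R' →+* S') (ψ : R →+* R') (f : S →+* S')
    (hψ : ψ.Flat) (hcomm : μ'.comp ψ = f.comp μ) (hfg : (RingHom.ker μ).FG)
    (hker : RingHom.ker μ' ≤ (RingHom.ker μ).map ψ) :
    (Submodule.annihilator (RingHom.ker μ')).map μ' =
      ((Submodule.annihilator (RingHom.ker μ)).map μ).map f := by
  have h : RingHom.ker μ' = (RingHom.ker μ).map ψ := by
    refine le_antisymm hker (Ideal.map_le_iff_le_comap.mpr fun z hz => ?_)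
    rw [Ideal.mem_comap, RingHom.mem_ker, ← RingHom.comp_apply, hcomm, RingHom.comp_apply,
      RingHom.mem_ker.mp hz, map_zero]
  rw [h, annihilator_map hψ hfg, Ideal.map_map, Ideal.map_map, hcomm]

lemma ideal_le_of_forall {A B : Type u} [CommRing A] [CommRing B] [Algebra A B]
    (K : Ideal (B ⊗[A] B)) (h : ∀ x : B, (1 : B) ⊗ₜ[A] x - x ⊗ₜ[A] (1 : B) ∈ K) :
    RingHom.ker (Algebra.TensorProduct.lmul' (S := B) A) ≤ K := by
  change KaehlerDifferential.ideal A B ≤ K
  rw [← KaehlerDifferential.span_range_eq_ideal, Ideal.span_le]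
  rintro _ ⟨x, rfl⟩
  exact h x

theorem baseChange {A B A' B' : Type u} [CommRing A] [CommRing B]
    [CommRing A'] [CommRing B'] [Algebra A B] [Algebra A A'] [Algebra A B'] [Algebra B B']
    [Algebra A' B'] [IsScalarTower A B B'] [IsScalarTower A A' B']
    [Algebra.IsPushout A B A' B'] [Algebra.FiniteType A B] [Module.Flat A A'] :
    noetherDifferent A' B' = (noetherDifferent A B).map (algebraMap B B') := by
  haveI hp : Algebra.IsPushout A A' B B' := Algebra.IsPushout.symm inferInstance
  haveI : Module.Flat B B' := Module.Flat.isBaseChange A B A' B' (Algebra.IsPushout.out (S := B) (R' := A'))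
  let f : B →ₐ[A] B' := IsScalarTower.toAlgHom A B B'
  have hf : f.toRingHom.Flat := RingHom.flat_algebraMap_iff.mpr inferInstance
  let r : B' ⊗[A] B →ₐ[A] B' ⊗[A'] B' :=
    Algebra.TensorProduct.lift ((Algebra.TensorProduct.includeLeft : B' →ₐ[A'] B' ⊗[A'] B').restrictScalars A)
      (((Algebra.TensorProduct.includeRight : B' →ₐ[A'] B' ⊗[A'] B').restrictScalars A).comp f)
      (fun _ _ => Commute.all _ _)
  have hr : Function.Bijective r := by
    let e : B' ⊗[A'] B' ≃ₗ[A'] B' ⊗[A] B :=
      (TensorProduct.congr (LinearEquiv.refl A' B')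
        (Algebra.IsPushout.out (S := A') (R' := B) : IsBaseChange A' (IsScalarTower.toAlgHom A B B').toLinearMap).equiv.symm) ≪≫ₗ
        TensorProduct.AlgebraTensorModule.cancelBaseChange A A' A' B' B
    have : ∀ z, r z = e.symm z := by
      intro z
      induction z using TensorProduct.induction_on with
      | zero => simp
      | tmul x b => simp [r, e, f, IsBaseChange.equiv_tmul]
      | add a b ha hb => rw [map_add, map_add, ha, hb]
    rw [show (r : B' ⊗[A] B → B' ⊗[A'] B') = e.symm from funext this]
    exact e.symm.bijective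
  let ψ : B ⊗[A] B →+* B' ⊗[A'] B' :=
    r.toRingHom.comp (Algebra.TensorProduct.map f (AlgHom.id A B)).toRingHom
  have hψ : ψ.Flat := RingHom.Flat.comp
    (RingHom.Flat.tensorProductMap (f := f) (g := AlgHom.id A B) hf (RingHom.Flat.id B))
    (RingHom.Flat.of_bijective hr)
  have hψt : ∀ b c : B, ψ (b ⊗ₜ c) = algebraMap B B' b ⊗ₜ algebraMap B B' c := by
    intro b c; simp [ψ, r, f]
  unfold noetherDifferent
  refine transfer (Algebra.TensorProduct.lmul' (S := B) A).toRingHom
    (Algebra.TensorProduct.lmul' (S := B') A').toRingHom ψ (algebraMap B B') hψ ?_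
    (KaehlerDifferential.ideal_fg A B) ?_
  · refine Algebra.TensorProduct.ringHom_ext ?_ ?_ <;> ext b <;> simp [hψt]
  · refine ideal_le_of_forall _ fun x => ?_
    set K := (RingHom.ker (Algebra.TensorProduct.lmul' (S := B) A).toRingHom).map ψ
    refine (Algebra.IsPushout.out (S := B) (R' := A') :
      IsBaseChange B (IsScalarTower.toAlgHom A A' B').toLinearMap).inductionOn x _ ?_ ?_ ?_ ?_
    · simp
    · intro a
      have : (1 : B') ⊗ₜ[A'] algebraMap A' B' a - algebraMap A' B' a ⊗ₜ[A'] (1 : B') = 0 := by
        rw [Algebra.algebraMap_eq_smul_one, TensorProduct.smul_tmul, sub_self]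
      change _ ∈ K
      simp only [AlgHom.toLinearMap_apply, IsScalarTower.coe_toAlgHom', this]
      exact K.zero_mem
    · intro b y hy
      have hb : ψ ((1 : B) ⊗ₜ b - b ⊗ₜ (1 : B)) ∈ K := Ideal.mem_map_of_mem ψ (by simp [RingHom.mem_ker])
      rw [map_sub, hψt, hψt, map_one] at hb
      have := K.add_mem (K.mul_mem_left ((1 : B') ⊗ₜ[A'] algebraMap B B' b) hy)
        (K.mul_mem_right (y ⊗ₜ[A'] (1 : B')) hb)
      convert this using 1
      simp only [Algebra.smul_def, mul_sub, sub_mul, Algebra.TensorProduct.tmul_mul_tmul, one_mul, mul_one]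
      abel
    · intro y z hy hz
      have := K.add_mem hy hz
      convert this using 1
      simp only [TensorProduct.tmul_add, TensorProduct.add_tmul]
      abel

theorem openImmersion {A B' B : Type u} [CommRing A] [CommRing B']
    [CommRing B] [Algebra A B'] [Algebra A B] [Algebra B' B] [IsScalarTower A B' B]
    [Algebra.FiniteType A B']
    (h : IsOpenImmersion (Spec.map (CommRingCat.ofHom (algebraMap B' B)))) :
    noetherDifferent A B = (noetherDifferent A B').map (algebraMap B' B) := by
  have hf : (algebraMap B' B).Flat := by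
    have hfl : AlgebraicGeometry.Flat (Spec.map (CommRingCat.ofHom (algebraMap B' B))) := inferInstance
    simpa using (HasRingHomProperty.Spec_iff (P := @AlgebraicGeometry.Flat)).mp hfl
  haveI hepi : Epi (CommRingCat.ofHom (algebraMap B' B)) := ⟨fun {T} g g' e =>
    Spec.map_injective ((cancel_mono (Spec.map (CommRingCat.ofHom (algebraMap B' B)))).mp
      (by rw [← Spec.map_comp, ← Spec.map_comp, e]))⟩
  let f : B' →ₐ[A] B := IsScalarTower.toAlgHom A B' B
  let ψ : B' ⊗[A] B' →+* B ⊗[A] B := (Algebra.TensorProduct.map f f).toRingHom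
  unfold noetherDifferent
  refine transfer (Algebra.TensorProduct.lmul' (S := B') A).toRingHom
    (Algebra.TensorProduct.lmul' (S := B) A).toRingHom ψ (algebraMap B' B)
    (RingHom.Flat.tensorProductMap (f := f) (g := f) hf hf) ?_ (KaehlerDifferential.ideal_fg A B') ?_
  · refine Algebra.TensorProduct.ringHom_ext ?_ ?_ <;> ext b <;> simp [ψ, f]
  · refine ideal_le_of_forall _ fun x => ?_
    set K := (RingHom.ker (Algebra.TensorProduct.lmul' (S := B') A).toRingHom).map ψ
    let g₁ : B →+* (B ⊗[A] B) ⧸ K := (Ideal.Quotient.mk K).comp Algebra.TensorProduct.includeRight.toRingHom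
    let g₂ : B →+* (B ⊗[A] B) ⧸ K := (Ideal.Quotient.mk K).comp Algebra.TensorProduct.includeLeftRingHom
    have : CommRingCat.ofHom g₁ = CommRingCat.ofHom g₂ := by
      rw [← cancel_epi (CommRingCat.ofHom (algebraMap B' B))]
      ext b
      have hb : ψ ((1 : B') ⊗ₜ b - b ⊗ₜ (1 : B')) ∈ K := Ideal.mem_map_of_mem ψ (by simp [RingHom.mem_ker])
      simp only [ψ, f, map_sub, AlgHom.toRingHom_eq_coe, RingHom.coe_coe,
        Algebra.TensorProduct.map_tmul, IsScalarTower.coe_toAlgHom', map_one] at hb
      simp only [CommRingCat.hom_comp, CommRingCat.hom_ofHom, RingHom.comp_apply, g₁, g₂]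
      exact (Ideal.Quotient.mk_eq_mk_iff_sub_mem _ _).mpr hb
    exact (Ideal.Quotient.mk_eq_mk_iff_sub_mem _ _).mp (congrArg (fun g => g.hom x) this)

end Groth.Misc1.NBC
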