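import Groth.Agent.Misc1.NoetherDiff
import Mathlib.RingTheory.Unramified.Locus
import Mathlib.LinearAlgebra.Matrix.Charpoly.LinearMap
import Mathlib.RingTheory.Support

/-!
# The Noether different cuts out the ramified locus
-/

set_option autoImplicit false

universe u v

open TensorProduct Disc

namespace Groth.Misc1.ND

variable {A : Type u} {B : Type v} [CommRing A] [CommRing B] [Algebra A B]

lemma noether_le_annihilator :
    noetherDifferent A B ≤ Module.annihilator B Ω[B⁄A] := by
  unfold noetherDifferent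
  rw [Ideal.map_le_iff_le_comap]
  intro ξ hξ
  rw [Ideal.mem_comap, Module.mem_annihilator]
  intro z
  obtain ⟨x, rfl⟩ := KaehlerDifferential.fromIdeal_surjective A B z
  rw [← algebraMap_smul (B ⊗[A] B) (Algebra.TensorProduct.lmul' A ξ)
    (KaehlerDifferential.fromIdeal A B x), ← map_smul]
  refine ((KaehlerDifferential.ideal A B).toCotangent_eq_zero _).mpr ?_
  simp only [SetLike.val_smul, smul_eq_mul, Algebra.TensorProduct.algebraMap_apply,
    Algebra.algebraMap_self, RingHom.id_apply]
  have h0 : ξ * (x : B ⊗[A] B) = 0 := by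
    have := Submodule.mem_annihilator.mp hξ (x : B ⊗[A] B) x.2
    simpa using this
  have h1 : Algebra.TensorProduct.lmul' A ξ ⊗ₜ[A] (1 : B) - ξ ∈ KaehlerDifferential.ideal A B := by
    simp [RingHom.mem_ker]
  rw [pow_two, ← sub_zero (_ * (x : B ⊗[A] B)), ← h0, ← sub_mul]
  exact Ideal.mul_mem_mul h1 x.2

lemma annihilator_le_radical [Algebra.FiniteType A B] :
    Module.annihilator B Ω[B⁄A] ≤ (noetherDifferent A B).radical := by
  classical
  intro s hs
  set I := KaehlerDifferential.ideal A B
  haveI : Module.Finite (B ⊗[A] B) I := Module.Finite.iff_fg.mpr (KaehlerDifferential.ideal_fg A B)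
  let t : B ⊗[A] B := s ⊗ₜ[A] (1 : B)
  let f : Module.End (B ⊗[A] B) I := t • LinearMap.id
  have hf : LinearMap.range f ≤ I • ⊤ := by
    rintro _ ⟨x, rfl⟩
    have h2 : s • KaehlerDifferential.fromIdeal A B x = 0 := Module.mem_annihilator.mp hs _
    rw [← algebraMap_smul (B ⊗[A] B) s (KaehlerDifferential.fromIdeal A B x), ← map_smul] at h2
    have h3 := (I.toCotangent_eq_zero _).mp h2
    refine Submodule.comap_map_eq_of_injective (f := I.subtype) I.injective_subtype
      (I • ⊤ : Submodule (B ⊗[A] B) I) ▸ ?_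
    rw [Submodule.mem_comap, Submodule.map_smul'', Submodule.map_top, Submodule.range_subtype,
      smul_eq_mul, ← pow_two]
    exact h3
  obtain ⟨p, hp, -, hcoeff, hzero⟩ :=
    LinearMap.exists_monic_and_natDegree_eq_and_coeff_mem_pow_and_aeval_eq_zero (B ⊗[A] B) f I hf
  refine ⟨p.natDegree, ?_⟩
  have hJ : p.eval t ∈ Submodule.annihilator I := by
    rw [Submodule.mem_annihilator]
    intro x hx
    have h4 : f = algebraMap (B ⊗[A] B) (Module.End (B ⊗[A] B) I) t := by
      ext y; rfl
    rw [h4, Polynomial.aeval_algebraMap_apply] at hzero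
    have := congrArg (fun g : Module.End (B ⊗[A] B) I => ((g ⟨x, hx⟩ : I) : B ⊗[A] B)) hzero
    simpa [Polynomial.coe_aeval_eq_eval] using this
  have hmu : Algebra.TensorProduct.lmul' (S := B) A (p.eval t) = s ^ p.natDegree := by
    rw [Polynomial.eval_eq_sum_range, map_sum, Finset.sum_range_succ, hp.coeff_natDegree,
      Finset.sum_eq_zero]
    · simp [t]
    · intro k hk
      rw [Finset.mem_range] at hk
      have : p.coeff k ∈ I := Ideal.pow_le_self (by omega) (hcoeff k)
      rw [RingHom.mem_ker] at this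
      rw [map_mul, this, zero_mul]
  rw [← hmu]
  exact Ideal.mem_map_of_mem _ hJ

theorem zeroLocus_eq [Algebra.FiniteType A B] :
    {q : PrimeSpectrum B | noetherDifferent A B ≤ q.asIdeal} =
      (Algebra.unramifiedLocus A B)ᶜ := by
  rw [Algebra.unramifiedLocus_eq_compl_support, compl_compl]
  ext q
  rw [Set.mem_setOf_eq, Module.mem_support_iff_of_finite]
  refine ⟨fun h => annihilator_le_radical.trans ?_, fun h => noether_le_annihilator.trans h⟩
  exact (Ideal.radical_mono h).trans q.2.radical.le

theorem different_subset_iff [Module.Finite A B] [Module.Free A B] (q : Ideal B) [q.IsPrime] :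
    differentSet A B ⊆ q ↔ ¬ Algebra.IsUnramifiedAt A q := by
  haveI : Algebra.FiniteType A B := Module.Finite.finiteType B
  rw [subset_prime_iff]
  exact Set.ext_iff.mp (zeroLocus_eq (A := A) (B := B)) ⟨q, ‹_›⟩

end Groth.Misc1.ND
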