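import Groth.Agent.Misc1.NoetherDiff
import Mathlib.RingTheory.QuasiFinite.Basic
import Mathlib.RingTheory.Localization.Finiteness
import Mathlib.RingTheory.Ideal.Colon
import Mathlib.RingTheory.Spectrum.Maximal.Basic
import Mathlib.RingTheory.Ideal.GoingUp

/-!
# The norm of the different is the discriminant
-/

set_option autoImplicit false

universe u

open Disc TensorProduct

namespace Groth.Misc1.ND

variable {A B : Type u} [CommRing A] [CommRing B] [Algebra A B] [Module.Finite A B]

lemma exists_near_generator (M : Type u) [AddCommGroup M] [Module B M] [Module.Invertible B M]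
    (m : Ideal A) [m.IsPrime] :
    ∃ g : M, ∀ l : M, ∃ s : A, s ∉ m ∧ ∃ c : B, algebraMap A B s • l = c • g := by
  classical
  let S := Algebra.algebraMapSubmonoid B m.primeCompl
  let A' := Localization m.primeCompl
  let B' := Localization S
  haveI : IsLocalRing A' := IsLocalization.AtPrime.isLocalRing A' m
  haveI : Module.Finite A' B' := Module.Finite.of_isLocalization A B m.primeCompl
  haveI : Finite (MaximalSpectrum B') := by
    have hfin := Algebra.QuasiFinite.finite_primesOver (S := B') (IsLocalRing.maximalIdeal A')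
    haveI : Algebra.IsIntegral A' B' := Algebra.IsIntegral.of_finite _ _
    haveI := hfin.to_subtype
    let φ : MaximalSpectrum B' → (IsLocalRing.maximalIdeal A').primesOver B' := fun P =>
      ⟨P.asIdeal, P.isMaximal.isPrime, ⟨by
        haveI := P.isMaximal
        exact (IsLocalRing.eq_maximalIdeal (Ideal.isMaximal_comap_of_isIntegral_of_isMaximal P.asIdeal)).symm⟩⟩
    exact Finite.of_injective φ fun P Q h => MaximalSpectrum.ext (congrArg Subtype.val h)
  haveI : Module.Free B' (LocalizedModule S M) := inferInstance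
  obtain ⟨e⟩ := (Module.Invertible.free_iff_linearEquiv (R := B') (M := LocalizedModule S M)).mp inferInstance
  obtain ⟨⟨g, t⟩, hg⟩ := IsLocalizedModule.surj S (LocalizedModule.mkLinearMap S M) (e.symm 1)
  refine ⟨g, fun l => ?_⟩
  obtain ⟨⟨c, t'⟩, hc⟩ := IsLocalization.surj S (e (LocalizedModule.mkLinearMap S M l))
  let f := LocalizedModule.mkLinearMap S M
  have h2 : f (((t : B) * (t' : B)) • l) = f (c • g) := by
    rw [map_smul, map_smul, ← hg]
    rw [Submonoid.smul_def, ← algebraMap_smul B' ((t : B) * t'), ← algebraMap_smul B' c,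
      ← algebraMap_smul B' (t : B) (e.symm 1)]
    apply e.injective
    simp only [map_smul, LinearEquiv.apply_symm_apply, smul_eq_mul, map_mul, mul_one, ← hc]
    ring
  obtain ⟨t'', ht''⟩ := (IsLocalizedModule.eq_iff_exists S f).mp h2
  obtain ⟨a, ha, hat⟩ := t''.2
  obtain ⟨b, hb, hbt⟩ := t.2
  obtain ⟨d, hd, hdt⟩ := t'.2
  refine ⟨a * (b * d), m.primeCompl.mul_mem ha (m.primeCompl.mul_mem hb hd), (t'' : B) * c, ?_⟩
  rw [map_mul, map_mul, hat, hbt, hdt, mul_smul, mul_smul (t'' : B) c]
  exact ht''

omit [Module.Finite A B] in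
lemma smul_mem_differentSet {ι : Type*} [Fintype ι] (b : Module.Basis ι A B)
    [Module.Free A B] [Module.Finite A B] (x : B)
    (h : ∀ i, ∃ c : B, x • coordOmega b i = c • Omega.trace A B) : x ∈ differentSet A B := by
  rw [mem_differentSet_iff]
  intro l
  choose c hc using h
  refine ⟨∑ i, algebraMap A B (l.toLinearMap (b i)) * c i, ?_⟩
  conv_lhs => rw [omega_expand b l]
  rw [Finset.smul_sum, Finset.sum_smul]
  exact Finset.sum_congr rfl fun i _ => by rw [smul_comm, hc, mul_smul]

theorem span_norm_eq {ι : Type} [Fintype ι] [DecidableEq ι] (b : Module.Basis ι A B)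
    [Module.Invertible B (Omega A B)] :
    Ideal.span (Algebra.norm A '' differentSet A B) = Ideal.span {Algebra.discr A b} := by
  classical
  haveI : Module.Free A B := Module.Free.of_basis b
  apply le_antisymm
  · rw [Ideal.span_le]
    rintro _ ⟨x, hx, rfl⟩
    exact norm_mem_span_discr b hx
  rw [Ideal.span_le, Set.singleton_subset_iff, SetLike.mem_coe]
  set I := Ideal.span (Algebra.norm A '' differentSet A B)
  suffices h : I.colon {Algebra.discr A b} = ⊤ by
    have : (1 : A) ∈ I.colon {Algebra.discr A b} := h ▸ Submodule.mem_top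
    simpa [Submodule.mem_colon_singleton] using this
  by_contra hne
  obtain ⟨m, hm, hle⟩ := Ideal.exists_le_maximal _ hne
  obtain ⟨g, hg⟩ := exists_near_generator (A := A) (B := B) (Omega A B) m
  obtain ⟨s₀, hs₀, d, hd⟩ := hg (Omega.trace A B)
  choose s hs c hc using fun i => hg (coordOmega b i)
  set S := ∏ i, s i with hSdef
  have hS : S ∉ m := fun h => by
    obtain ⟨i, -, hi⟩ := hm.isPrime.prod_mem_iff.mp h
    exact hs i hi
  have hx : d * algebraMap A B S ∈ differentSet A B := by
    refine smul_mem_differentSet b _ fun i => ?_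
    refine ⟨algebraMap A B (∏ j ∈ Finset.univ.erase i, s j) * c i * algebraMap A B s₀, ?_⟩
    rw [hSdef, ← Finset.prod_erase_mul _ _ (Finset.mem_univ i), map_mul, mul_smul _ (algebraMap A B s₀),
      hd, ← mul_assoc, mul_smul _ (algebraMap A B (s i)), hc, smul_smul, smul_smul]
    congr 1
    ring
  let G : Matrix ι ι A := Matrix.of fun i j => g.toLinearMap (b i * b j)
  have key : s₀ • Algebra.traceMatrix A b = (Algebra.leftMulMatrix b d).transpose * G := by
    ext i j
    have h1 := congrArg (fun l : Omega A B => l.toLinearMap (b i * b j)) hd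
    simp only [Omega.smul_toLinearMap_apply, ← Algebra.smul_def, map_smul, smul_eq_mul, Omega.trace] at h1
    rw [Matrix.smul_apply, Algebra.traceMatrix_apply, Algebra.traceForm_apply, smul_eq_mul, h1,
      ← mul_assoc]
    conv_lhs => rw [← b.sum_repr (d * b i)]
    simp only [Matrix.mul_apply, Matrix.transpose_apply, Matrix.of_apply, G, Finset.sum_mul,
      map_sum, smul_mul_assoc, map_smul, smul_eq_mul, Algebra.leftMulMatrix_eq_repr_mul]
  have hdet := congrArg Matrix.det key
  rw [Matrix.det_smul, Matrix.det_mul, Matrix.det_transpose, ← Algebra.norm_eq_matrix_det b,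
    ← Algebra.discr_def] at hdet
  have hu : S ^ Fintype.card ι * s₀ ^ Fintype.card ι ∈ I.colon {Algebra.discr A b} := by
    rw [Submodule.mem_colon_singleton, smul_eq_mul, mul_assoc, hdet]
    have : S ^ Fintype.card ι * Algebra.norm A d = Algebra.norm A (d * algebraMap A B S) := by
      rw [map_mul, Algebra.norm_algebraMap_of_basis b, mul_comm]
    rw [← mul_assoc, this]
    exact I.mul_mem_right _ (Ideal.subset_span ⟨_, hx, rfl⟩)
  rcases hm.isPrime.mem_or_mem (hle hu) with h | h
  · exact hS (hm.isPrime.mem_of_pow_mem _ h)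
  · exact hs₀ (hm.isPrime.mem_of_pow_mem _ h)

end Groth.Misc1.ND
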