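import Groth.Prelude.Def_Disc
import Mathlib.RingTheory.Ideal.AssociatedPrime.Basic
import Mathlib.RingTheory.Ideal.GoingUp
import Mathlib.RingTheory.IntegralClosure.IsIntegralClosure.Basic
import Mathlib.RingTheory.Localization.Integer
import Mathlib.RingTheory.Localization.FractionRing
import Mathlib.RingTheory.Localization.BaseChange
import Mathlib.LinearAlgebra.Dual.Lemmas

/-!
# Associated primes of the dualizing module of a finite map
-/

set_option autoImplicit false

universe u v

open Disc TensorProduct

namespace Groth.Misc1.OmegaAss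

/-- a linear functional which is nonzero at a prescribed nonzero element -/
lemma exists_dual {R : Type u} {D : Type v} [CommRing R] [IsDomain R] [CommRing D] [IsDomain D]
    [Algebra R D] [Module.Finite R D] (hinj : Function.Injective (algebraMap R D)) :
    ∃ ψ : D →ₗ[R] R, ψ 1 ≠ 0 := by
  classical
  let K := FractionRing R
  have hreg : ∀ r : nonZeroDivisors R, Function.Injective (fun d : D => (r : R) • d) := by
    intro r x y hxy
    simp only [Algebra.smul_def] at hxy
    exact mul_left_cancel₀ ((map_ne_zero_iff _ hinj).mpr (nonZeroDivisors.coe_ne_zero r)) hxy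
  let ι : D →ₗ[R] K ⊗[R] D := TensorProduct.mk R K D 1
  have hne : ι 1 ≠ 0 := by
    intro h
    haveI : IsLocalizedModule (nonZeroDivisors R) ι :=
      (isLocalizedModule_iff_isBaseChange (nonZeroDivisors R) K ι).mpr (TensorProduct.isBaseChange R D K)
    obtain ⟨s, hs⟩ := (IsLocalizedModule.eq_zero_iff (nonZeroDivisors R) ι).mp h
    exact one_ne_zero (hreg s (show (s : R) • (1 : D) = (s : R) • 0 by rw [smul_zero]; exact hs))
  obtain ⟨f, hf⟩ : ∃ f : K ⊗[R] D →ₗ[K] K, f (ι 1) ≠ 0 := by
    by_contra hall
    push Not at hall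
    exact hne ((Module.forall_dual_apply_eq_zero_iff K (ι 1)).mp hall)
  obtain ⟨s, hs⟩ := (Module.Finite.fg_top : (⊤ : Submodule R D).FG)
  obtain ⟨c, hc⟩ := IsLocalization.exist_integer_multiples (nonZeroDivisors R) s (fun d => f (ι d))
  let L : D →ₗ[R] K := ((c : R) • ((f.restrictScalars R).comp ι))
  have hrange : ∀ d, L d ∈ LinearMap.range (Algebra.linearMap R K) := by
    have : (⊤ : Submodule R D) ≤ (LinearMap.range (Algebra.linearMap R K)).comap L := by
      rw [← hs, Submodule.span_le]
      intro d hd
      obtain ⟨r, hr⟩ := hc d hd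
      exact ⟨r, by simpa [L] using hr⟩
    exact fun d => this trivial
  let e := LinearEquiv.ofInjective (Algebra.linearMap R K) (IsFractionRing.injective R K)
  refine ⟨e.symm.toLinearMap.comp (L.codRestrict _ hrange), fun h => ?_⟩
  have h2 : L 1 = 0 := by
    simp only [LinearMap.comp_apply, LinearEquiv.coe_coe, LinearEquiv.map_eq_zero_iff] at h
    exact congrArg Subtype.val h
  simp only [L, LinearMap.smul_apply, LinearMap.comp_apply, LinearMap.restrictScalars_apply] at h2
  rw [Algebra.smul_def, mul_eq_zero] at h2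
  rcases h2 with h2 | h2
  · exact nonZeroDivisors.coe_ne_zero c ((map_eq_zero_iff _ (IsFractionRing.injective R K)).mp h2)
  · exact hf h2

variable {A : Type u} {B : Type v} [CommRing A] [CommRing B] [Algebra A B]

lemma mem_colon_omega (φ : Omega A B) (b : B) :
    b ∈ (⊥ : Submodule B (Omega A B)).colon {φ} ↔ ∀ x, φ.toLinearMap (b * x) = 0 := by
  rw [Submodule.mem_colon_singleton, Submodule.mem_bot, Omega.ext_iff, LinearMap.ext_iff]
  rfl

theorem associatedPrimes_omega [IsNoetherianRing A] [IsNoetherianRing B] [Module.Finite A B] :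
    associatedPrimes B (Omega A B) =
      {q : Ideal B | q.IsPrime ∧ q.comap (algebraMap A B) ∈ associatedPrimes A A} := by
  classical
  ext q
  rw [AssociatedPrimes.mem_iff, isAssociatedPrime_iff, Set.mem_setOf_eq, AssociatedPrimes.mem_iff,
    isAssociatedPrime_iff]
  constructor
  · rintro ⟨hq, φ, hφ⟩
    refine ⟨hq, Ideal.IsPrime.comap _, ?_⟩
    obtain ⟨s, hs⟩ := (Module.Finite.fg_top : (⊤ : Submodule A B).FG)
    have key : q.comap (algebraMap A B) = s.inf fun g => (⊥ : Submodule A A).colon {φ.toLinearMap g} := by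
      ext a
      rw [Ideal.mem_comap, hφ, mem_colon_omega, Submodule.mem_finsetInf]
      simp only [Submodule.mem_colon_singleton, Submodule.mem_bot, ← Algebra.smul_def, map_smul]
      refine ⟨fun h g _ => h g, fun h x => ?_⟩
      have hx : x ∈ Submodule.span A (s : Set B) := hs ▸ trivial
      induction hx using Submodule.span_induction with
      | mem y hy => exact h y hy
      | zero => simp
      | add y z _ _ hy hz => rw [map_add, smul_add, hy, hz, add_zero]
      | smul r y _ hy => rw [map_smul, smul_comm, hy, smul_zero]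
    have hp : (q.comap (algebraMap A B)).IsPrime := Ideal.IsPrime.comap _
    obtain ⟨g, hg, hle⟩ := hp.inf_le'.mp key.ge
    exact ⟨φ.toLinearMap g, le_antisymm (key.le.trans (Finset.inf_le hg)) hle⟩
  · rintro ⟨hq, hp, x₀, hx₀⟩
    refine ⟨hq, ?_⟩
    set p := q.comap (algebraMap A B) with hpdef
    haveI : q.LiesOver p := ⟨rfl⟩
    haveI : Module.Finite (A ⧸ p) (B ⧸ q) := Module.Finite.of_restrictScalars_finite A (A ⧸ p) (B ⧸ q)
    have hinj : Function.Injective (algebraMap (A ⧸ p) (B ⧸ q)) := by
      rw [injective_iff_map_eq_zero]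
      intro a
      obtain ⟨a, rfl⟩ := Ideal.Quotient.mk_surjective a
      rw [Ideal.Quotient.algebraMap_mk_of_liesOver, Ideal.Quotient.eq_zero_iff_mem,
        Ideal.Quotient.eq_zero_iff_mem]
      exact id
    obtain ⟨ψ, hψ⟩ := exists_dual hinj
    let g : (A ⧸ p) →ₗ[A] A := Submodule.liftQ p (LinearMap.toSpanSingleton A A x₀) (by
      intro a ha
      rw [hx₀, Submodule.mem_colon_singleton, Submodule.mem_bot] at ha
      simpa using ha)
    have hg : ∀ z, g z = 0 → z = 0 := by
      intro z hz
      obtain ⟨a, rfl⟩ := Submodule.Quotient.mk_surjective _ z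
      rw [Submodule.Quotient.mk_eq_zero, hx₀, Submodule.mem_colon_singleton, Submodule.mem_bot]
      exact (show a • x₀ = 0 from hz)
    let φ : Omega A B := ⟨g.comp ((ψ.restrictScalars A).comp (Ideal.Quotient.mkₐ A q).toLinearMap)⟩
    refine ⟨φ, ?_⟩
    ext b
    rw [mem_colon_omega]
    constructor
    · intro hb x
      simp [φ, Ideal.Quotient.eq_zero_iff_mem.mpr hb]
    · intro h
      by_contra hb
      have hb0 : Ideal.Quotient.mk q b ≠ 0 := mt Ideal.Quotient.eq_zero_iff_mem.mp hb
      haveI : Algebra.IsIntegral (A ⧸ p) (B ⧸ q) := Algebra.IsIntegral.of_finite _ _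
      have hne := Ideal.comap_ne_bot_of_integral_mem (R := A ⧸ p) hb0
        (Ideal.mem_span_singleton_self (Ideal.Quotient.mk q b)) (Algebra.IsIntegral.isIntegral _)
      obtain ⟨a, ha, ha0⟩ := Submodule.exists_mem_ne_zero_of_ne_bot hne
      rw [Ideal.mem_comap, Ideal.mem_span_singleton] at ha
      obtain ⟨d, hd⟩ := ha
      obtain ⟨x, rfl⟩ := Ideal.Quotient.mk_surjective d
      have h1 := h x
      simp only [φ, LinearMap.comp_apply, AlgHom.toLinearMap_apply, Ideal.Quotient.mkₐ_eq_mk,
        LinearMap.restrictScalars_apply, map_mul, ← hd] at h1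
      have h2 := hg _ h1
      rw [Algebra.algebraMap_eq_smul_one, map_smul, smul_eq_mul, mul_eq_zero] at h2
      exact h2.elim ha0 hψ

end Groth.Misc1.OmegaAss
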