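import Groth.Agent.EGA41Two.QuasiRegular

/-!
# The Rees algebra of an ideal generated by a regular sequence
-/

set_option autoImplicit false

universe u

open MvPolynomial RingTheory.Sequence

namespace Groth.Misc1.ReesKernel

open Groth.EGA41Two

variable {A : Type u} [CommRing A] {c : ℕ}

/-- The ideal of the linear relations. -/
noncomputable def relIdeal (f : Fin c → A) : Ideal (MvPolynomial (Fin c) A) :=
  Ideal.span {q | ∃ i j : Fin c, q = C (f i) * X j - C (f j) * X i}

/-- `x • H` is congruent to `X_k` times a form of lower degree with the same value. -/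
theorem exists_shift (f : Fin c → A) {k n : ℕ} (hk : k < c) {H : MvPolynomial (Fin c) A}
    (hH : IsForm k (n + 1) H) :
    ∃ T, IsForm (k + 1) n T ∧ eval f T = eval f H ∧
      C (f ⟨k, hk⟩) * H - X ⟨k, hk⟩ * T ∈ relIdeal f := by
  classical
  have key : ∀ d ∈ H.support, ∃ T, IsForm (k + 1) n T ∧ eval f T = eval f (monomial d (H.coeff d)) ∧
      C (f ⟨k, hk⟩) * monomial d (H.coeff d) - X ⟨k, hk⟩ * T ∈ relIdeal f := by
    intro d hd
    rw [mem_support_iff] at hd
    have hdeg := hH.1 hd
    obtain ⟨j, hj⟩ : ∃ j, d j ≠ 0 := by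
      by_contra h
      push Not at h
      rw [show d = 0 from Finsupp.ext h] at hdeg
      simp at hdeg
    have hjk : (j : ℕ) < k := not_le.1 fun h => hj (hH.2 d hd j h)
    set d' := d - Finsupp.single j 1 with hd'
    have hdd : d = d' + Finsupp.single j 1 :=
      (tsub_add_cancel_of_le (Finsupp.single_le_iff.2 (Nat.one_le_iff_ne_zero.2 hj))).symm
    have hmon : monomial d (H.coeff d) = monomial d' (H.coeff d) * X j := by
      rw [X, monomial_mul, mul_one, ← hdd]
    refine ⟨C (f j) * monomial d' (H.coeff d), IsForm.C_mul ⟨isHomogeneous_monomial _ ?_, fun e he i hi => ?_⟩ _,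
      by rw [hmon, map_mul, map_mul, eval_C, eval_X, mul_comm], ?_⟩
    · have h := hdeg
      rw [hdd, map_add] at h
      have : Finsupp.weight (1 : Fin c → ℕ) (Finsupp.single j 1) = 1 := by simp [Finsupp.weight_single]
      rw [Finsupp.degree_eq_weight_one]
      change Finsupp.weight (1 : Fin c → ℕ) d' = n
      omega
    · rw [coeff_monomial] at he
      split_ifs at he with h
      · subst h
        have := hH.2 d hd i (by omega)
        simp [hd', this]
      · exact absurd rfl he
    · rw [hmon]
      have : C (f ⟨k, hk⟩) * (monomial d' (H.coeff d) * X j) -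
          X ⟨k, hk⟩ * (C (f j) * monomial d' (H.coeff d)) =
          monomial d' (H.coeff d) * (C (f ⟨k, hk⟩) * X j - C (f j) * X ⟨k, hk⟩) := by ring
      rw [this]
      exact Ideal.mul_mem_left _ _ (Ideal.subset_span ⟨_, _, rfl⟩)
  choose! T hT hTe hTr using key
  refine ⟨∑ d ∈ H.support, T d, ?_, ?_, ?_⟩
  · exact Finset.sum_induction _ (IsForm (k + 1) n) (fun _ _ => IsForm.add) (isForm_zero _ _) hT
  · rw [map_sum, Finset.sum_congr rfl hTe, ← map_sum, ← H.as_sum]
  · conv => arg 2; arg 1; arg 2; rw [H.as_sum]
    rw [Finset.mul_sum, Finset.mul_sum, ← Finset.sum_sub_distrib]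
    exact Ideal.sum_mem _ hTr

/-- Forms vanishing at a regular sequence are combinations of the linear relations. -/
theorem form_mem_relIdeal (f : Fin c → A) (hf : IsWeaklyRegular A (List.ofFn f)) :
    ∀ k ≤ c, ∀ (n : ℕ) (P : MvPolynomial (Fin c) A), IsForm k n P → eval f P = 0 → P ∈ relIdeal f := by
  classical
  have hzero : ∀ (P : MvPolynomial (Fin c) A), P = C (P.coeff 0) → eval f P = 0 → P ∈ relIdeal f := by
    intro P hP he
    rw [hP, eval_C] at he
    rw [hP, he, map_zero]
    exact zero_mem _
  intro k
  induction k with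
  | zero =>
    intro _ n P hP he
    refine hzero P ?_ he
    ext e
    rw [coeff_C]
    split_ifs with he'
    · rw [he']
    · by_contra hne
      exact he' (Finsupp.ext fun i => (hP.2 e hne i (Nat.zero_le _)).symm)
  | succ k ihk =>
    intro hk
    have hIH := ihk (Nat.le_of_succ_le hk)
    let x := f ⟨k, hk⟩
    have hmem : ∀ (m : ℕ) (y : A), x * y ∈ headSpan f k ^ m → y ∈ headSpan f k ^ m := by
      intro m y hy
      have hsplit : List.ofFn f = (List.ofFn f).take k ++ (List.ofFn f).drop k := (List.take_append_drop _ _).symm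
      have hf' := hf
      rw [hsplit] at hf'
      have h := Groth.Ega4b.isWeaklyRegular_quot_pow A _ _ hf' m
      have hd : (List.ofFn f).drop k = x :: (List.ofFn f).drop (k + 1) := by
        rw [List.drop_eq_getElem_cons (by simpa using hk)]
        simp [x]
      rw [hd, isWeaklyRegular_cons_iff] at h
      have hI : Ideal.ofList ((List.ofFn f).take k) = headSpan f k := by
        apply le_antisymm
        · refine Ideal.span_le.mpr fun a ha => ?_
          obtain ⟨i, hi, rfl⟩ := List.mem_take_iff_getElem.mp ha
          simp only [lt_min_iff, List.length_ofFn] at hi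
          refine Ideal.subset_span ⟨⟨i, hi.2⟩, hi.1, by simp⟩
        · refine Ideal.span_mono ?_
          rintro _ ⟨i, hi, rfl⟩
          exact List.mem_take_iff_getElem.mpr ⟨i, lt_min hi (by simp), by simp⟩
      rw [hI] at h
      have h0 : x • (Submodule.Quotient.mk y : A ⧸ (headSpan f k ^ m • (⊤ : Submodule A A))) = 0 := by
        rw [← Submodule.Quotient.mk_smul, Submodule.Quotient.mk_eq_zero]
        simpa using hy
      have h1 := h.1.right_eq_zero_of_smul h0
      rw [Submodule.Quotient.mk_eq_zero] at h1
      simpa using h1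
    intro n
    induction n with
    | zero =>
      intro P hP he
      exact hzero P (totalDegree_eq_zero_iff_eq_C.mp (Nat.le_zero.mp hP.1.totalDegree_le)) he
    | succ n ihn =>
      intro P hP he
      let e : Fin c →₀ ℕ := Finsupp.single ⟨k, hk⟩ 1
      let S := P.divMonomial e
      let R := P.modMonomial e
      have hdec : X ⟨k, hk⟩ * S + R = P := P.divMonomial_add_modMonomial_single ⟨k, hk⟩
      have hS : IsForm (k + 1) n S := by
        refine ⟨fun d hd => ?_, fun d hd i hi => ?_⟩
        · rw [coeff_divMonomial] at hd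
          have h := hP.1 hd
          rw [map_add] at h
          have : Finsupp.weight (1 : Fin c → ℕ) e = 1 := by simp [e, Finsupp.weight_single]
          change Finsupp.weight (1 : Fin c → ℕ) d = n
          omega
        · rw [coeff_divMonomial] at hd
          have h := hP.2 _ hd i hi
          simp only [Finsupp.add_apply] at h
          omega
      have hR : IsForm k (n + 1) R := by
        refine ⟨fun d hd => ?_, fun d hd i hi => ?_⟩ <;> by_cases hle : e ≤ d
        · exact absurd (coeff_modMonomial_of_le P hle) hd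
        · exact hP.1 (by rwa [← coeff_modMonomial_of_not_le P hle])
        · exact absurd (coeff_modMonomial_of_le P hle) hd
        · rw [coeff_modMonomial_of_not_le P hle] at hd
          rcases Nat.eq_or_lt_of_le hi with h | h
          · have hik : i = ⟨k, hk⟩ := Fin.ext h.symm
            subst hik
            by_contra hne
            exact hle (Finsupp.single_le_iff.mpr (Nat.one_le_iff_ne_zero.mpr hne))
          · exact hP.2 d hd i h
      have hev : x * eval f S + eval f R = 0 := by
        rw [← he, ← hdec, map_add, map_mul, eval_X]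
      have hSI : eval f S ∈ headSpan f k ^ (n + 1) := by
        refine hmem _ _ ?_
        rw [eq_neg_of_add_eq_zero_left hev]
        exact neg_mem (eval_mem_pow f hR)
      obtain ⟨H, hH, -, hHe⟩ := exists_form f ⊤ k (n + 1) (eval f S) (by rw [Ideal.top_mul]; exact hSI)
      obtain ⟨T, hT, hTe, hTr⟩ := exists_shift f hk hH
      have h1 : S + C (-1) * T ∈ relIdeal f :=
        ihn _ (hS.add (hT.C_mul _)) (by simp [hTe, hHe])
      have h2 : R + C x * H ∈ relIdeal f :=
        hIH (n + 1) _ (hR.add (hH.C_mul _)) (by rw [map_add, map_mul, eval_C, hHe, add_comm]; exact hev)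
      rw [show P = X ⟨k, hk⟩ * (S + C (-1) * T) + ((R + C x * H) - (C x * H - X ⟨k, hk⟩ * T)) by
        rw [← hdec, map_neg, map_one]; ring]
      exact add_mem (Ideal.mul_mem_left _ _ h1) (sub_mem h2 hTr)

theorem mem_relIdeal_of_eval (f : Fin c → A) (hf : IsWeaklyRegular A (List.ofFn f)) {n : ℕ}
    {P : MvPolynomial (Fin c) A} (hP : P.IsHomogeneous n) (he : eval f P = 0) : P ∈ relIdeal f :=
  form_mem_relIdeal f hf c le_rfl n P ⟨hP, fun _ _ i hi => absurd i.2 (not_lt.2 hi)⟩ he

/-- Scaling the arguments of a homogeneous polynomial. -/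
theorem aeval_scale {σ : Type*} {B : Type*} [CommRing B] [Algebra A B] {n : ℕ} {Q : MvPolynomial σ A}
    (hQ : Q.IsHomogeneous n) (s : B) (g : σ → B) :
    aeval (fun i => s * g i) Q = s ^ n * aeval g Q := by
  classical
  conv_lhs => rw [Q.as_sum]
  conv_rhs => rw [Q.as_sum]
  rw [map_sum, map_sum, Finset.mul_sum]
  refine Finset.sum_congr rfl fun d hd => ?_
  have hdeg := hQ (mem_support_iff.1 hd)
  rw [aeval_monomial, aeval_monomial, Finsupp.prod, Finsupp.prod]
  simp only [mul_pow, Finset.prod_mul_distrib, Finset.prod_pow_eq_pow_sum]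
  rw [show ∑ i ∈ d.support, d i = n by
    rw [← hdeg]; simp [Finsupp.weight_apply, Finsupp.sum]]
  ring

theorem eval_relIdeal (f : Fin c → A) {P : MvPolynomial (Fin c) A} (hP : P ∈ relIdeal f) :
    eval f P = 0 := by
  refine (Ideal.span_le.2 ?_ : relIdeal f ≤ RingHom.ker (eval f)) hP
  rintro _ ⟨i, j, rfl⟩
  simp [mul_comm]

/-- The kernel of the map to the Rees algebra. -/
theorem ker_rees (f : Fin c → A) (hf : IsWeaklyRegular A (List.ofFn f)) :
    RingHom.ker (aeval (R := A) (fun i : Fin c => Polynomial.C (f i) * (Polynomial.X : Polynomial A))) =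
      relIdeal f := by
  classical
  refine le_antisymm (fun P hP => ?_) (Ideal.span_le.2 ?_)
  swap
  · rintro _ ⟨i, j, rfl⟩
    simp only [SetLike.mem_coe, RingHom.mem_ker, map_sub, map_mul, aeval_C, aeval_X,
      Polynomial.algebraMap_apply, Algebra.algebraMap_self, RingHom.id_apply]
    ring
  set φ := aeval (R := A) (fun i : Fin c => Polynomial.C (f i) * (Polynomial.X : Polynomial A))
  have hQ : ∀ (n : ℕ) (Q : MvPolynomial (Fin c) A), Q.IsHomogeneous n →
      φ Q = Polynomial.C (eval f Q) * Polynomial.X ^ n := by
    intro n Q hQ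
    rw [show φ Q = aeval (fun i => (Polynomial.X : Polynomial A) * Polynomial.C (f i)) Q by
      simp only [φ, mul_comm], aeval_scale hQ, mul_comm]
    congr 1
    exact (congrArg (fun g : MvPolynomial (Fin c) A →ₐ[A] Polynomial A => g Q)
      (comp_aeval f (IsScalarTower.toAlgHom A A (Polynomial A))).symm).trans rfl
  have hP' : φ P = 0 := hP
  rw [← sum_homogeneousComponent P, map_sum, Finset.sum_congr rfl fun n _ => hQ n _
    (homogeneousComponent_isHomogeneous n P)] at hP'
  rw [← sum_homogeneousComponent P]
  refine Ideal.sum_mem _ fun n hn => mem_relIdeal_of_eval f hf (homogeneousComponent_isHomogeneous n P) ?_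
  have h := congrArg (fun q : Polynomial A => q.coeff n) hP'
  simp only [Polynomial.finsetSum_coeff, Polynomial.coeff_C_mul_X_pow, Polynomial.coeff_zero,
    Finset.sum_ite_eq, hn, if_true] at h
  exact h

end Groth.Misc1.ReesKernel
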