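import Mathlib.Algebra.Lie.Classical
import Mathlib.LinearAlgebra.Dimension.Free
import Mathlib.LinearAlgebra.FreeModule.Basic
import Mathlib.Algebra.BigOperators.Fin
import Mathlib.LinearAlgebra.StdBasis
import Mathlib.LinearAlgebra.FreeModule.Finite.Basic

/-!
# The cokernel of the adjoint action of a subregular nilpotent element of `sl`
-/

set_option autoImplicit false

universe u

namespace Groth.Misc1.SlSubregular

variable {O : Type u} [CommRing O] {n : ℕ}

/-- entries as a function of natural numbers, zero outside the range -/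
def ent (N : Matrix (Fin (n + 1)) (Fin (n + 1)) O) (a b : ℕ) : O :=
  if h : a < n + 1 ∧ b < n + 1 then N ⟨a, h.1⟩ ⟨b, h.2⟩ else 0

@[simp] lemma ent_fin (N : Matrix (Fin (n + 1)) (Fin (n + 1)) O) (i j : Fin (n + 1)) : ent N i j = N i j := by
  simp [ent, i.2, j.2]

lemma ent_add (M N : Matrix (Fin (n + 1)) (Fin (n + 1)) O) (a b : ℕ) :
    ent (M + N) a b = ent M a b + ent N a b := by
  unfold ent; split_ifs <;> simp

lemma ent_smul (c : O) (M : Matrix (Fin (n + 1)) (Fin (n + 1)) O) (a b : ℕ) :
    ent (c • M) a b = c * ent M a b := by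
  unfold ent; split_ifs <;> simp

/-- sums along diagonals, ending at `(a, b)` -/
def dsum (e : ℕ → ℕ → O) : ℕ → ℕ → O
  | 0, b => e 0 b
  | a + 1, 0 => e (a + 1) 0
  | a + 1, b + 1 => e (a + 1) (b + 1) + dsum e a b

lemma dsum_add (e e' : ℕ → ℕ → O) : ∀ a b,
    dsum (fun i j => e i j + e' i j) a b = dsum e a b + dsum e' a b
  | 0, _ => rfl
  | _ + 1, 0 => rfl
  | a + 1, b + 1 => by simp only [dsum, dsum_add e e' a b]; ring

lemma dsum_smul (c : O) (e : ℕ → ℕ → O) : ∀ a b, dsum (fun i j => c * e i j) a b = c * dsum e a b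
  | 0, _ => rfl
  | _ + 1, 0 => rfl
  | a + 1, b + 1 => by simp only [dsum, dsum_smul c e a b]; ring

lemma dsum_diag (e : ℕ → ℕ → O) : ∀ a, dsum e a a = ∑ i ∈ Finset.range (a + 1), e i i
  | 0 => by simp [dsum]
  | a + 1 => by rw [Finset.sum_range_succ, ← dsum_diag e a, dsum, add_comm]

lemma dsum_cases (e : ℕ → ℕ → O) (a b : ℕ) :
    dsum e a b = e a b + if a = 0 ∨ b = 0 then 0 else dsum e (a - 1) (b - 1) := by
  cases a <;> cases b <;> simp [dsum]

/-- the invariants: subdiagonal sums of the big block and the two corner entries -/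
def inv (N : Matrix (Fin (n + 1)) (Fin (n + 1)) O) : (Fin n ⊕ Fin 2) → O :=
  Sum.elim (fun k => dsum (ent N) (n - 1) (n - 1 - k)) ![ent N (n - 1) n, ent N n 0]

/-- the commutator with the subregular nilpotent, entrywise -/
def comm (M : Matrix (Fin (n + 1)) (Fin (n + 1)) O) (a b : ℕ) : O :=
  (if a + 1 < n then ent M (a + 1) b else 0) - (if 1 ≤ b ∧ b < n then ent M a (b - 1) else 0)

lemma dsum_comm (M : Matrix (Fin (n + 1)) (Fin (n + 1)) O) : ∀ a b, a < n → b ≤ a →
    dsum (comm M) a b = if a + 1 < n then ent M (a + 1) b else 0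
  | 0, 0, _, _ => by simp [dsum, comm]
  | _ + 1, 0, _, _ => by simp [dsum, comm]
  | a + 1, b + 1, ha, hb => by
    rw [dsum, dsum_comm M a b (by omega) (by omega), comm, if_pos (show a + 1 < n from ha),
      if_pos (show 1 ≤ b + 1 ∧ b + 1 < n by omega), Nat.add_sub_cancel, sub_add_cancel]

lemma inv_eq_zero_of_comm (M N : Matrix (Fin (n + 1)) (Fin (n + 1)) O)
    (h : ∀ a b, a < n + 1 → b < n + 1 → ent N a b = comm M a b) : inv N = 0 := by
  have hd : ∀ a b, a < n + 1 → b < n + 1 → dsum (ent N) a b = dsum (comm M) a b := by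
    intro a
    induction a with
    | zero => intro b ha hb; exact h 0 b ha hb
    | succ a ih =>
      intro b ha hb
      cases b with
      | zero => exact h _ _ ha hb
      | succ b => rw [dsum, dsum, h _ _ ha hb, ih b (by omega) (by omega)]
  funext s
  rcases s with k | k
  · show dsum (ent N) (n - 1) (n - 1 - (k : ℕ)) = 0
    have := k.2
    rw [hd _ _ (by omega) (by omega), dsum_comm M _ _ (by omega) (by omega), if_neg (by omega)]
  · fin_cases k
    · show ent N (n - 1) n = 0
      rw [h _ _ (by omega) (by omega), comm, if_neg (by omega), if_neg (by omega), sub_zero]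
    · show ent N n 0 = 0
      rw [h _ _ (by omega) (by omega), comm, if_neg (by omega), if_neg (by omega), sub_zero]

lemma exists_preimage (hn : 1 ≤ n) (N : Matrix (Fin (n + 1)) (Fin (n + 1)) O) (htr : N.trace = 0)
    (hinv : inv N = 0) :
    ∃ M : Matrix (Fin (n + 1)) (Fin (n + 1)) O, ∀ a b, a < n + 1 → b < n + 1 → ent N a b = comm M a b := by
  classical
  let M : Matrix (Fin (n + 1)) (Fin (n + 1)) O := Matrix.of fun i j =>
    if (i : ℕ) = n then (if (j : ℕ) + 1 < n then -ent N n ((j : ℕ) + 1) else 0)
    else if (i : ℕ) = 0 then 0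
    else if (j : ℕ) = n then ent N ((i : ℕ) - 1) n else dsum (ent N) ((i : ℕ) - 1) j
  have hM : ∀ a b, a < n + 1 → b < n + 1 → ent M a b =
      if a = n then (if b + 1 < n then -ent N n (b + 1) else 0)
      else if a = 0 then 0 else if b = n then ent N (a - 1) n else dsum (ent N) (a - 1) b := by
    intro a b ha hb
    rw [ent, dif_pos ⟨ha, hb⟩]
    rfl
  have hs : ∀ k, k < n → dsum (ent N) (n - 1) (n - 1 - k) = 0 := fun k hk =>
    congrFun hinv (Sum.inl ⟨k, hk⟩)
  have hc1 : ent N (n - 1) n = 0 := congrFun hinv (Sum.inr 0)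
  have hc2 : ent N n 0 = 0 := congrFun hinv (Sum.inr 1)
  have hnn : ent N n n = 0 := by
    have h1 : ∑ i ∈ Finset.range (n + 1), ent N i i = 0 := by
      rw [← Fin.sum_univ_eq_sum_range (fun i => ent N i i)]
      simpa [Matrix.trace] using htr
    have h2 := hs 0 (by omega)
    rw [Nat.sub_zero, dsum_diag, Nat.sub_add_cancel hn] at h2
    rwa [Finset.sum_range_succ, h2, zero_add] at h1
  refine ⟨M, fun a b ha hb => ?_⟩
  rw [comm]
  rcases eq_or_lt_of_le (Nat.lt_succ_iff.1 ha) with rfl | ha'
  · rw [if_neg (by omega), zero_sub]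
    by_cases h : 1 ≤ b ∧ b < a
    · rw [if_pos h, hM _ _ (by omega) (by omega), if_pos rfl, if_pos (by omega), neg_neg,
        Nat.sub_add_cancel h.1]
    · rw [if_neg h, neg_zero]
      rcases Nat.eq_zero_or_pos b with rfl | hb'
      · exact hc2
      · obtain rfl : b = a := by omega
        exact hnn
  rcases eq_or_lt_of_le (Nat.lt_succ_iff.1 hb) with rfl | hb'
  · rw [if_neg (show ¬(1 ≤ b ∧ b < b) by omega), sub_zero]
    by_cases h : a + 1 < b
    · rw [if_pos h, hM _ _ (by omega) (by omega), if_neg (by omega), if_neg (by omega), if_pos rfl,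
        Nat.add_sub_cancel]
    · rw [if_neg h]
      obtain rfl : a = b - 1 := by omega
      exact hc1
  -- inside the big block
  have hrec := dsum_cases (ent N) a b
  have hleft : (if a + 1 < n then ent M (a + 1) b else 0) = dsum (ent N) a b ∨
      (¬ a + 1 < n ∧ dsum (ent N) a b = 0) := by
    by_cases h : a + 1 < n
    · left
      rw [if_pos h, hM _ _ (by omega) (by omega), if_neg (by omega), if_neg (by omega), if_neg (by omega),
        Nat.add_sub_cancel]
    · right
      refine ⟨h, ?_⟩
      obtain rfl : a = n - 1 := by omega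
      have := hs (n - 1 - b) (by omega)
      rwa [show n - 1 - (n - 1 - b) = b by omega] at this
  have hleft' : (if a + 1 < n then ent M (a + 1) b else 0) = dsum (ent N) a b := by
    rcases hleft with h | ⟨h1, h2⟩
    · exact h
    · rw [if_neg h1, h2]
  have hright : (if 1 ≤ b ∧ b < n then ent M a (b - 1) else 0) =
      if a = 0 ∨ b = 0 then 0 else dsum (ent N) (a - 1) (b - 1) := by
    rcases Nat.eq_zero_or_pos b with rfl | hb0
    · simp
    rw [if_pos ⟨hb0, hb'⟩, hM _ _ (by omega) (by omega), if_neg (by omega)]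
    rcases Nat.eq_zero_or_pos a with rfl | ha0
    · simp
    rw [if_neg (by omega), if_neg (by omega), if_neg (by omega)]
  rw [hleft', hright, hrec, add_sub_cancel_right]

section Main

variable [Nontrivial O]
open LieAlgebra.SpecialLinear

omit [Nontrivial O] in
lemma mem_sl {M : Matrix (Fin (n + 1)) (Fin (n + 1)) O} :
    M ∈ sl (Fin (n + 1)) O ↔ M.trace = 0 := Iff.rfl

theorem finrank_coker (hn : 1 ≤ n) (x : sl (Fin (n + 1)) O)
    (hx : ∀ i j : Fin (n + 1), (x : Matrix (Fin (n + 1)) (Fin (n + 1)) O) i j =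
      if j.val = i.val + 1 ∧ j.val < n then 1 else 0) :
    Module.Free O (sl (Fin (n + 1)) O ⧸ LinearMap.range (LieAlgebra.ad O (sl (Fin (n + 1)) O) x)) ∧
      Module.finrank O (sl (Fin (n + 1)) O ⧸
        LinearMap.range (LieAlgebra.ad O (sl (Fin (n + 1)) O) x)) = n + 2 := by
  classical
  let X : Matrix (Fin (n + 1)) (Fin (n + 1)) O := x
  have hX : ∀ i j, X i j = if j.val = i.val + 1 ∧ j.val < n then 1 else 0 := hx
  have hcomm : ∀ (M : Matrix (Fin (n + 1)) (Fin (n + 1)) O) (a b : ℕ), a < n + 1 → b < n + 1 →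
      ent (X * M - M * X) a b = comm M a b := by
    intro M a b ha hb
    have h1 : (X * M) ⟨a, ha⟩ ⟨b, hb⟩ = if a + 1 < n then ent M (a + 1) b else 0 := by
      rw [Matrix.mul_apply]
      by_cases h : a + 1 < n
      · rw [if_pos h, Finset.sum_eq_single (⟨a + 1, by omega⟩ : Fin (n + 1))]
        · rw [hX, if_pos ⟨rfl, h⟩, one_mul, ent, dif_pos ⟨by omega, hb⟩]
        · intro k _ hk
          rw [hX, if_neg (fun h' => hk (Fin.ext h'.1)), zero_mul]
        · simp
      · rw [if_neg h]
        refine Finset.sum_eq_zero fun k _ => ?_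
        rw [hX, if_neg, zero_mul]
        rintro ⟨h1, h2⟩
        simp only at h1 h2
        omega
    have h2 : (M * X) ⟨a, ha⟩ ⟨b, hb⟩ = if 1 ≤ b ∧ b < n then ent M a (b - 1) else 0 := by
      rw [Matrix.mul_apply]
      by_cases h : 1 ≤ b ∧ b < n
      · rw [if_pos h, Finset.sum_eq_single (⟨b - 1, by omega⟩ : Fin (n + 1))]
        · rw [hX, if_pos ⟨(Nat.sub_add_cancel h.1).symm, h.2⟩, mul_one, ent, dif_pos ⟨ha, by omega⟩]
        · intro k _ hk
          rw [hX, if_neg, mul_zero]
          exact fun h' => hk (Fin.ext (show (k : ℕ) = b - 1 by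
            have : b = (k : ℕ) + 1 := h'.1
            omega))
        · simp
      · rw [if_neg h]
        refine Finset.sum_eq_zero fun k _ => ?_
        rw [hX, if_neg, mul_zero]
        rintro ⟨h1, h2⟩
        simp only at h1 h2
        exact h ⟨by omega, h2⟩
    rw [ent, dif_pos ⟨ha, hb⟩, Matrix.sub_apply, h1, h2, comm]
  let Φ : sl (Fin (n + 1)) O →ₗ[O] (Fin n ⊕ Fin 2 → O) :=
    { toFun := fun N => inv (N : Matrix (Fin (n + 1)) (Fin (n + 1)) O)
      map_add' := fun M N => by
        have he : ent ((M + N : sl (Fin (n + 1)) O) : Matrix (Fin (n + 1)) (Fin (n + 1)) O) =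
            fun a b => ent (M : Matrix (Fin (n + 1)) (Fin (n + 1)) O) a b + ent (N : Matrix (Fin (n + 1)) (Fin (n + 1)) O) a b :=
          funext fun a => funext fun b => ent_add _ _ a b
        funext s
        rcases s with k | k
        · simp only [inv, he, Sum.elim_inl, Pi.add_apply, dsum_add]
        · fin_cases k <;> simp [inv, ent_add]
      map_smul' := fun c N => by
        have he : ent ((c • N : sl (Fin (n + 1)) O) : Matrix (Fin (n + 1)) (Fin (n + 1)) O) =
            fun a b => c * ent (N : Matrix (Fin (n + 1)) (Fin (n + 1)) O) a b :=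
          funext fun a => funext fun b => ent_smul c _ a b
        funext s
        rcases s with k | k
        · simp only [inv, he, Sum.elim_inl, Pi.smul_apply, RingHom.id_apply, dsum_smul, smul_eq_mul]
        · fin_cases k <;> simp [inv, ent_smul] }
  have hker : LinearMap.ker Φ = LinearMap.range (LieAlgebra.ad O (sl (Fin (n + 1)) O) x) := by
    refine le_antisymm (fun N hN => ?_) ?_
    · obtain ⟨M, hM⟩ := exists_preimage hn (N : Matrix (Fin (n + 1)) (Fin (n + 1)) O) N.2 hN
      -- correct the trace by a matrix commuting with `x`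
      let E : Matrix (Fin (n + 1)) (Fin (n + 1)) O := Matrix.single (Fin.last n) (Fin.last n) 1
      have hXE : X * E = 0 := by
        ext i j
        rw [Matrix.mul_apply, Matrix.zero_apply]
        refine Finset.sum_eq_zero fun k _ => ?_
        rcases eq_or_ne (Fin.last n) k with rfl | hk
        · rw [hX, if_neg (fun h => lt_irrefl n (by simpa using h.2)), zero_mul]
        · show X i k * Matrix.single (Fin.last n) (Fin.last n) (1 : O) k j = 0
          rw [Matrix.single_apply_of_row_ne hk, mul_zero]
      have hEX : E * X = 0 := by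
        ext i j
        rw [Matrix.mul_apply, Matrix.zero_apply]
        refine Finset.sum_eq_zero fun k _ => ?_
        rcases eq_or_ne (Fin.last n) k with rfl | hk
        · rw [hX, if_neg (fun h => by have := h.1; have := h.2; simp at *; omega), mul_zero]
        · show Matrix.single (Fin.last n) (Fin.last n) (1 : O) i k * X k j = 0
          simp [Matrix.single, hk]
      have htr : (M - M.trace • E).trace = 0 := by simp [E, Matrix.trace_sub]
      refine ⟨⟨M - M.trace • E, mem_sl.2 htr⟩, Subtype.ext ?_⟩
      change X * (M - M.trace • E) - (M - M.trace • E) * X = _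
      rw [mul_sub, sub_mul, mul_smul_comm, smul_mul_assoc, hXE, hEX, smul_zero, sub_zero, sub_zero]
      ext i j
      rw [← ent_fin (X * M - M * X), ← ent_fin (N : Matrix (Fin (n + 1)) (Fin (n + 1)) O),
        hcomm M _ _ i.2 j.2, hM _ _ i.2 j.2]
    · rintro _ ⟨M, rfl⟩
      refine inv_eq_zero_of_comm (M : Matrix (Fin (n + 1)) (Fin (n + 1)) O) _ fun a b ha hb => ?_
      exact hcomm _ a b ha hb
  have hsurj : Function.Surjective Φ := by
    intro v
    let P : Matrix (Fin (n + 1)) (Fin (n + 1)) O := Matrix.of fun i j =>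
      if (i : ℕ) = n - 1 ∧ (j : ℕ) = n then v (Sum.inr 0)
      else if (i : ℕ) = n ∧ (j : ℕ) = 0 then v (Sum.inr 1)
      else if h : (i : ℕ) = n - 1 ∧ (j : ℕ) < n then v (Sum.inl ⟨n - 1 - (j : ℕ), by omega⟩)
      else if (i : ℕ) = n ∧ (j : ℕ) = n then -v (Sum.inl ⟨0, by omega⟩) else 0
    have hP : ∀ a b (ha : a < n + 1) (hb : b < n + 1), ent P a b =
        if a = n - 1 ∧ b = n then v (Sum.inr 0)
        else if a = n ∧ b = 0 then v (Sum.inr 1)
        else if h : a = n - 1 ∧ b < n then v (Sum.inl ⟨n - 1 - b, by omega⟩)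
        else if a = n ∧ b = n then -v (Sum.inl ⟨0, by omega⟩) else 0 := fun a b ha hb => by
      rw [ent, dif_pos ⟨ha, hb⟩]; rfl
    have htr : P.trace = 0 := by
      have hsum : P.trace = ∑ i ∈ Finset.range (n + 1), ent P i i := by
        rw [← Fin.sum_univ_eq_sum_range (fun i => ent P i i)]
        exact Finset.sum_congr rfl fun i _ => (ent_fin P i i).symm
      rw [hsum, Finset.sum_range_succ, Finset.sum_eq_single (n - 1)]
      · rw [hP _ _ (by omega) (by omega), if_neg (by omega), if_neg (by omega), dif_pos (by omega),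
          hP _ _ (by omega) (by omega), if_neg (by omega), if_neg (by omega), dif_neg (by omega),
          if_pos ⟨rfl, rfl⟩]
        simp
      · intro i hi hne
        rw [Finset.mem_range] at hi
        rw [hP _ _ (by omega) (by omega), if_neg (by omega), if_neg (by omega), dif_neg (by omega),
          if_neg (by omega)]
      · intro h
        simp at h
        omega
    refine ⟨⟨P, mem_sl.2 htr⟩, funext fun s => ?_⟩
    have hlow : ∀ a b, a + 1 < n → b < n + 1 → dsum (ent P) a b = 0 := by
      intro a
      induction a with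
      | zero =>
        intro b ha hb
        rw [dsum, hP _ _ (by omega) hb, if_neg (by omega), if_neg (by omega), dif_neg (by omega),
          if_neg (by omega)]
      | succ a ih =>
        intro b ha hb
        rcases b with _ | b
        · rw [dsum, hP _ _ (by omega) hb, if_neg (by omega), if_neg (by omega), dif_neg (by omega),
            if_neg (by omega)]
        · rw [dsum, hP _ _ (by omega) hb, if_neg (by omega), if_neg (by omega), dif_neg (by omega),
            if_neg (by omega), zero_add]
          exact ih _ (by omega) (by omega)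
    rcases s with k | k
    · show dsum (ent P) (n - 1) (n - 1 - (k : ℕ)) = v (Sum.inl k)
      have := k.2
      rw [dsum_cases, hP _ _ (by omega) (by omega), if_neg (by omega), if_neg (by omega), dif_pos (by omega)]
      split_ifs with h
      · rw [add_zero]; congr; omega
      · rw [hlow _ _ (by omega) (by omega), add_zero]; congr; omega
    · fin_cases k
      · show ent P (n - 1) n = v (Sum.inr 0)
        rw [hP _ _ (by omega) (by omega), if_pos ⟨rfl, rfl⟩]
      · show ent P n 0 = v (Sum.inr 1)
        rw [hP _ _ (by omega) (by omega), if_neg (by omega), if_pos ⟨rfl, rfl⟩]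
  have e : (sl (Fin (n + 1)) O ⧸ LinearMap.range (LieAlgebra.ad O (sl (Fin (n + 1)) O) x)) ≃ₗ[O]
      (Fin n ⊕ Fin 2 → O) :=
    (Submodule.quotEquivOfEq _ _ hker.symm).trans (LinearMap.quotKerEquivOfSurjective Φ hsurj)
  refine ⟨Module.Free.of_equiv e.symm, ?_⟩
  rw [e.finrank_eq, Module.finrank_pi]
  simp

end Main

end Groth.Misc1.SlSubregular
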