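import Groth.Prelude.Def_DerLim
import Mathlib.CategoryTheory.Triangulated.Pretriangulated

/-!
# Cofinal subsequences and homotopy colimits
-/

set_option autoImplicit false
set_option linter.style.haveILetI false

universe v u

open CategoryTheory CategoryTheory.Limits CategoryTheory.Pretriangulated

namespace Groth.Misc1.Cofinal

variable {D : Type u} [Category.{v} D] [Preadditive D] (F : ℕ ⥤ D)

/-- transition map -/
abbrev Fm {m k : ℕ} (h : m ≤ k) : F.obj m ⟶ F.obj k := F.map (homOfLE h)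

lemma Fm_self {m : ℕ} (h : m ≤ m) : Fm F h = 𝟙 (F.obj m) :=
  (congrArg F.map (Subsingleton.elim _ _)).trans (F.map_id m)

lemma Fm_comp {a b c : ℕ} (h : a ≤ b) (h' : b ≤ c) : Fm F h ≫ Fm F h' = Fm F (h.trans h') :=
  (F.map_comp _ _).symm.trans (congrArg F.map (Subsingleton.elim _ _))

lemma Fm_comp_assoc {a b c : ℕ} (h : a ≤ b) (h' : b ≤ c) {Z : D} (z : F.obj c ⟶ Z) :
    Fm F h ≫ Fm F h' ≫ z = Fm F (h.trans h') ≫ z := by rw [← Category.assoc, Fm_comp]

variable [HasCoproduct (fun m : ℕ => F.obj m)]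

local notation "CK" => (∐ fun m : ℕ => F.obj m)
local notation "inc" => Sigma.ι (fun m : ℕ => F.obj m)
local notation "uu" => 𝟙 CK - DerLim.shiftMap (fun m : ℕ => F.obj m) (fun m : ℕ => F.map (homOfLE (Nat.le_succ m)))

/-- the sum of the transition maps `F m ⟶ F k`, `m ≤ k < m + d`, into the coproduct -/
noncomputable def seg : (d m : ℕ) → (F.obj m ⟶ CK)
  | 0, _ => 0
  | d + 1, m => inc m + Fm F (Nat.le_succ m) ≫ seg d (m + 1)

lemma inc_uu (m : ℕ) : inc m ≫ uu = inc m - Fm F (Nat.le_succ m) ≫ inc (m + 1) := by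
  simp [DerLim.shiftMap, Preadditive.comp_sub]

lemma seg_uu (d : ℕ) : ∀ (m k : ℕ) (e : m + d = k) (h : m ≤ k),
    seg F d m ≫ uu = inc m - Fm F h ≫ inc k := by
  induction d with
  | zero =>
    intro m k e h
    obtain rfl : m = k := e
    rw [seg, Fm_self, Category.id_comp, sub_self, zero_comp]
  | succ d ih =>
    intro m k e h
    rw [seg, Preadditive.add_comp, inc_uu, Category.assoc,
      ih (m + 1) k (by omega) (by omega), Preadditive.comp_sub, Fm_comp_assoc]
    abel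

variable (n : ℕ → ℕ) [HasCoproduct (fun i : ℕ => F.obj (n i))]

local notation "CN" => (∐ fun i : ℕ => F.obj (n i))
local notation "inc'" => Sigma.ι (fun i : ℕ => F.obj (n i))

/-- inclusion of the subsequence -/
noncomputable def j : CN ⟶ CK := Sigma.desc fun i => inc (n i)

variable {n} (hn : StrictMono n)

include hn in
lemma exists_le (m : ℕ) : ∃ i, m ≤ n i := ⟨m, hn.le_apply⟩

/-- the first index of the subsequence above `m` -/
noncomputable def idx (m : ℕ) : ℕ := Nat.find (exists_le hn m)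

lemma le_idx (m : ℕ) : m ≤ n (idx hn m) := Nat.find_spec (exists_le hn m)

lemma idx_eq (i : ℕ) : idx hn (n i) = i :=
  le_antisymm (Nat.find_min' _ le_rfl) (hn.le_iff_le.mp (le_idx hn (n i)))

lemma idx_succ_eq {m : ℕ} (h : n (idx hn m) ≠ m) : idx hn (m + 1) = idx hn m :=
  le_antisymm (Nat.find_min' _ (lt_of_le_of_ne (le_idx hn m) (Ne.symm h)))
    (Nat.find_min' _ ((Nat.le_succ m).trans (le_idx hn (m + 1))))

lemma idx_succ_n (i : ℕ) : idx hn (n i + 1) = i + 1 :=
  le_antisymm (Nat.find_min' _ (hn (Nat.lt_succ_self i)))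
    (hn.lt_iff_lt.mp ((Nat.lt_succ_self (n i)).trans_le (le_idx hn (n i + 1))))

/-- retraction on the second term -/
noncomputable def q : CK ⟶ CN := Sigma.desc fun m => Fm F (le_idx hn m) ≫ inc' (idx hn m)

lemma inc_q (m i : ℕ) (hi : idx hn m = i) (h : m ≤ n i) : inc m ≫ q F hn = Fm F h ≫ inc' i := by
  subst hi; exact Sigma.ι_desc _ _

open Classical in
/-- retraction on the first term -/
noncomputable def p : CK ⟶ CN := Sigma.desc fun m =>
  if h : n (idx hn m) = m then eqToHom (congrArg F.obj h.symm) ≫ inc' (idx hn m) else 0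

lemma inc_p_zero {m : ℕ} (h : n (idx hn m) ≠ m) : inc m ≫ p F hn = 0 := by
  rw [p, Sigma.ι_desc, dif_neg h]

lemma inc_p (i : ℕ) : inc (n i) ≫ p F hn = inc' i := by
  rw [p, Sigma.ι_desc, dif_pos (congrArg n (idx_eq hn i))]
  have key : ∀ (k : ℕ) (hk : k = i) (e : F.obj (n i) = F.obj (n k)), eqToHom e ≫ inc' k = inc' i := by
    rintro _ rfl e; simp
  exact key _ (idx_eq hn i) _

/-- the map on first terms -/
noncomputable def a : CN ⟶ CK := Sigma.desc fun i => seg F (n (i + 1) - n i) (n i)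

/-- homotopy -/
noncomputable def s : CK ⟶ CK := Sigma.desc fun m => seg F (n (idx hn m) - m) m

lemma seg_p_zero (d : ℕ) : ∀ m, (∀ k, m ≤ k → k < m + d → n (idx hn k) ≠ k) → seg F d m ≫ p F hn = 0 := by
  induction d with
  | zero => intro m _; rw [seg, zero_comp]
  | succ d ih =>
    intro m h
    rw [seg, Preadditive.add_comp, inc_p_zero F hn (h m le_rfl (by omega)), Category.assoc,
      ih (m + 1) (fun k hk hk' => h k (by omega) (by omega)), comp_zero, add_zero]

include hn in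
lemma j_comm : a F (n := n) ≫ uu =
    (𝟙 CN - DerLim.shiftMap (fun i : ℕ => F.obj (n i))
      (fun i : ℕ => F.map (homOfLE (hn.monotone (Nat.le_succ i))))) ≫ j F n := by
  refine Sigma.hom_ext _ _ fun i => ?_
  rw [a, Sigma.ι_desc_assoc, seg_uu F _ (n i) (n (i + 1)) (by have := hn (Nat.lt_succ_self i); simp only [Nat.succ_eq_add_one] at this; omega) (hn.monotone (Nat.le_succ i))]
  simp [j, DerLim.shiftMap, Preadditive.sub_comp, Preadditive.comp_sub]

lemma q_comm : p F hn ≫ (𝟙 CN - DerLim.shiftMap (fun i : ℕ => F.obj (n i))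
      (fun i : ℕ => F.map (homOfLE (hn.monotone (Nat.le_succ i))))) = uu ≫ q F hn := by
  refine Sigma.hom_ext _ _ fun m => ?_
  simp only [← Category.assoc]
  rw [inc_uu, Preadditive.sub_comp, Category.assoc (Fm F _)]
  by_cases h : n (idx hn m) = m
  · obtain ⟨i, rfl⟩ : ∃ i, n i = m := ⟨_, h⟩
    rw [inc_p, inc_q F hn (n i) i (idx_eq hn i) le_rfl, Fm_self, Category.id_comp,
      inc_q F hn (n i + 1) (i + 1) (idx_succ_n hn i) (hn (Nat.lt_succ_self i)), Fm_comp_assoc]
    simp [DerLim.shiftMap, Preadditive.comp_sub]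
  · rw [inc_p_zero F hn h, zero_comp, inc_q F hn m _ rfl (le_idx hn m),
      inc_q F hn (m + 1) _ (idx_succ_eq hn h) (lt_of_le_of_ne (le_idx hn m) (Ne.symm h)),
      Fm_comp_assoc, sub_self]

lemma j_q : j F n ≫ q F hn = 𝟙 CN := by
  refine Sigma.hom_ext _ _ fun i => ?_
  rw [j, Sigma.ι_desc_assoc, inc_q F hn (n i) i (idx_eq hn i) le_rfl, Fm_self, Category.id_comp,
    Category.comp_id]

lemma a_p : a F (n := n) ≫ p F hn = 𝟙 CN := by
  refine Sigma.hom_ext _ _ fun i => ?_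
  obtain ⟨d, hd⟩ : ∃ d, n (i + 1) - n i = d + 1 :=
    ⟨n (i + 1) - n i - 1, by have := hn (Nat.lt_succ_self i); simp only [Nat.succ_eq_add_one] at this; omega⟩
  rw [a, Sigma.ι_desc_assoc, hd, seg, Preadditive.add_comp, inc_p, Category.assoc,
    seg_p_zero F hn d (n i + 1) (fun k hk hk' e => by
      have h1 : i < idx hn k := hn.lt_iff_lt.mp (by omega)
      have h2 : idx hn k < i + 1 := hn.lt_iff_lt.mp (by omega)
      omega), comp_zero, add_zero, Category.comp_id]

lemma homotopy : uu ≫ (-s F hn) = p F hn ≫ a F (n := n) - 𝟙 CK := by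
  refine Sigma.hom_ext _ _ fun m => ?_
  rw [← Category.assoc, inc_uu, Preadditive.comp_neg, Preadditive.sub_comp, Category.assoc,
    Preadditive.comp_sub, ← Category.assoc, Category.comp_id, s, Sigma.ι_desc, Category.assoc,
    Sigma.ι_desc]
  by_cases h : n (idx hn m) = m
  · obtain ⟨i, rfl⟩ : ∃ i, n i = m := ⟨_, h⟩
    obtain ⟨d, hd⟩ : ∃ d, n (i + 1) = n i + 1 + d :=
      Nat.exists_eq_add_of_le (hn (Nat.lt_succ_self i))
    rw [← Category.assoc (Sigma.ι _ _), inc_p, a, Sigma.ι_desc, idx_eq, Nat.sub_self, idx_succ_n,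
      show n (i + 1) - (n i + 1) = d by omega, show n (i + 1) - n i = d + 1 by omega, seg, seg]
    abel
  · obtain ⟨d, hd⟩ : ∃ d, n (idx hn m) = m + 1 + d :=
      Nat.exists_eq_add_of_le (lt_of_le_of_ne (le_idx hn m) (Ne.symm h))
    rw [← Category.assoc (Sigma.ι _ _), inc_p_zero F hn h, zero_comp, idx_succ_eq hn h,
      show n (idx hn m) - (m + 1) = d by omega, show n (idx hn m) - m = d + 1 by omega, seg]
    abel

omit [HasCoproduct (fun m : ℕ => F.obj m)] [HasCoproduct (fun i : ℕ => F.obj (n i))] in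
lemma isIso_of_self_map [HasZeroObject D] [HasShift D ℤ] [∀ k : ℤ, (shiftFunctor D k).Additive]
    [Pretriangulated D] (T : Triangle D) (hT : T ∈ distinguishedTriangles)
    (φ : T.obj₃ ⟶ T.obj₃) (h₂ : T.mor₂ ≫ φ = T.mor₂) (h₃ : φ ≫ T.mor₃ = T.mor₃) : IsIso φ := by
  obtain ⟨N, hN⟩ : ∃ N, φ = 𝟙 _ + N := ⟨φ - 𝟙 _, by abel⟩
  subst hN
  simp only [Preadditive.comp_add, Category.comp_id, add_eq_left] at h₂
  simp only [Preadditive.add_comp, Category.id_comp, add_eq_left] at h₃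
  obtain ⟨y, hy⟩ := Triangle.yoneda_exact₃ T hT N h₂
  have hNN : N ≫ N = 0 := by
    conv_lhs => arg 2; rw [hy]
    rw [← Category.assoc, h₃, zero_comp]
  refine ⟨⟨𝟙 _ - N, ?_, ?_⟩⟩ <;>
    simp [Preadditive.add_comp, Preadditive.comp_add, Preadditive.sub_comp, Preadditive.comp_sub, hNN]

theorem exists_iso [HasZeroObject D] [HasShift D ℤ] [∀ k : ℤ, (shiftFunctor D k).Additive]
    [Pretriangulated D] (L : D) (ι : ∀ m : ℕ, F.obj m ⟶ L)
    (hL : DerLim.IsHocolim (fun m : ℕ => F.obj m) (fun m : ℕ => F.map (homOfLE (Nat.le_succ m))) L ι)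
    (L' : D) (ι' : ∀ i : ℕ, F.obj (n i) ⟶ L')
    (hL' : DerLim.IsHocolim (fun i : ℕ => F.obj (n i))
      (fun i : ℕ => F.map (homOfLE (hn.monotone (Nat.le_succ i)))) L' ι') :
    ∃ e : L' ≅ L, ∀ i : ℕ, ι' i ≫ e.hom = ι (n i) := by
  obtain ⟨c, hT⟩ := hL
  obtain ⟨c', hT'⟩ := hL'
  obtain ⟨g, hg₂, hg₃⟩ := complete_distinguished_triangle_morphism _ _ hT' hT (a F (n := n)) (j F n)
    (j_comm F hn).symm
  obtain ⟨h, hh₂, hh₃⟩ := complete_distinguished_triangle_morphism _ _ hT hT' (p F hn) (q F hn)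
    (q_comm F hn).symm
  change L' ⟶ L at g
  change L ⟶ L' at h
  change Sigma.desc ι' ≫ g = j F n ≫ Sigma.desc ι at hg₂
  change c' ≫ (a F (n := n))⟦(1 : ℤ)⟧' = g ≫ c at hg₃
  change Sigma.desc ι ≫ h = q F hn ≫ Sigma.desc ι' at hh₂
  change c ≫ (p F hn)⟦(1 : ℤ)⟧' = h ≫ c' at hh₃
  have hι : ∀ m k (hmk : m ≤ k), Fm F hmk ≫ ι k = ι m := by
    intro m k hmk
    have h0 : seg F (k - m) m ≫ uu ≫ Sigma.desc ι = 0 := by
      rw [show uu ≫ Sigma.desc ι = 0 from comp_distTriang_mor_zero₁₂ _ hT, comp_zero]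
    rw [← Category.assoc, seg_uu F _ m k (by omega) hmk] at h0
    simp only [Preadditive.sub_comp, Category.assoc, Sigma.ι_desc, sub_eq_zero] at h0
    exact h0.symm
  have hzero : c ≫ (uu)⟦(1 : ℤ)⟧' = 0 := comp_distTriang_mor_zero₃₁ _ hT
  have i1 : IsIso (g ≫ h) := isIso_of_self_map _ hT' (g ≫ h)
    (by
      change Sigma.desc ι' ≫ g ≫ h = Sigma.desc ι'
      rw [← Category.assoc, hg₂, Category.assoc, hh₂, ← Category.assoc, j_q, Category.id_comp])
    (by
      change (g ≫ h) ≫ c' = c'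
      rw [Category.assoc, ← hh₃, ← Category.assoc, ← hg₃, Category.assoc, ← Functor.map_comp, a_p,
        CategoryTheory.Functor.map_id, Category.comp_id])
  have i2 : IsIso (h ≫ g) := isIso_of_self_map _ hT (h ≫ g)
    (by
      change Sigma.desc ι ≫ h ≫ g = Sigma.desc ι
      rw [← Category.assoc, hh₂, Category.assoc, hg₂]
      refine Sigma.hom_ext _ _ fun m => ?_
      rw [← Category.assoc, inc_q F hn m _ rfl (le_idx hn m)]
      simp [j, hι])
    (by
      change (h ≫ g) ≫ c = c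
      rw [Category.assoc, ← hg₃, ← Category.assoc, ← hh₃, Category.assoc, ← Functor.map_comp,
        show p F hn ≫ a F (n := n) = 𝟙 CK + uu ≫ (-s F hn) by rw [homotopy]; abel,
        Functor.map_add, Functor.map_comp, CategoryTheory.Functor.map_id, Preadditive.comp_add,
        Category.comp_id, ← Category.assoc, hzero, zero_comp, add_zero])
  haveI : IsSplitMono g := IsSplitMono.mk' ⟨h ≫ inv (g ≫ h), by rw [← Category.assoc, IsIso.hom_inv_id]⟩
  haveI : IsSplitEpi g := IsSplitEpi.mk' ⟨inv (h ≫ g) ≫ h, by rw [Category.assoc, IsIso.inv_hom_id]⟩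
  haveI : IsIso g := isIso_of_mono_of_isSplitEpi g
  refine ⟨asIso g, fun i => ?_⟩
  have := congrArg (inc' i ≫ ·) hg₂
  simpa [j] using this

end Groth.Misc1.Cofinal
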